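import Mathlib
import Cfsg.Agent.H639.Col
import Cfsg.Agent.H639.Fus
import Cfsg.Agent.H613.SubFus

/-!
# Columns at pairs, in terms of functions on `G`

`Tst r φ`: the function `φ` on `G` restricts to a member of the pair `r`.

* `Good p q r`: the members of `r` agree on `p`-regular elements and their products are `1 / q`;
* `tst_ei`, `tst_cf`, `exists_ei`;
* `col_congr`, `col_cf`: invariance of the columns;
* `sum_col_eq`: the expansion of the column of a character of `G` in terms of a subgroup;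
* `W_eq_col`.
-/

set_option autoImplicit false
set_option linter.unusedSectionVars false

open Cfsg
open scoped ComplexConjugate

namespace Cfsg.Agent.H653.ColBasic

open Cfsg.Agent.Blocks.Local Cfsg.Agent.Characters
open Cfsg.Agent.H613.RegGram Cfsg.Agent.H613.Contrib Cfsg.Agent.H613.SubSys
open Cfsg.Agent.H613.SubFus
open Cfsg.Agent.H639 Cfsg.Agent.H649 Cfsg.Agent.H651
open Cfsg.Agent.Blocks.Basic (isPBlock_blockOf mem_blockOf_self isPBlock_eq_blockOf
  isPBlock_eq_of_mem isPBlock_nonempty)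

universe u

variable {G : Type u} [Group G] [Fintype G] {p : ℕ}

/-- Members of the pair `r` agree on `p`-regular elements and have products `1 / q`. -/
structure Good (p q : ℕ) (r : BrauerPairIdx G) : Prop where
  eq : ∀ φ φ' : G → ℂ, Tst r φ → Tst r φ' → ∀ g ∈ Subgroup.centralizer (r.1 : Set G),
    ¬ p ∣ orderOf g → φ g = φ' g
  gram : ∀ φ φ' : G → ℂ, Tst r φ → Tst r φ' →
    rip p (Subgroup.centralizer (r.1 : Set G)) φ φ' = (q : ℂ)⁻¹

theorem tst_ei {r : BrauerPairIdx G} {ξ : IrrCharacter (Subgroup.centralizer (r.1 : Set G))} :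
    Tst r (ei ξ) ↔ ξ ∈ r.2 := by
  constructor
  · rintro ⟨η, hη, h⟩
    have h1 : ξ = η := by
      apply Subtype.ext
      funext k
      rw [← h k, ei_coe]
    rwa [h1]
  · intro h
    exact ⟨ξ, h, fun k => ei_coe ξ k⟩

theorem tst_congr {r : BrauerPairIdx G} {φ φ' : G → ℂ}
    (h : ∀ k : Subgroup.centralizer (r.1 : Set G), φ k = φ' k) : Tst r φ ↔ Tst r φ' := by
  constructor
  · rintro ⟨η, hη, h1⟩
    exact ⟨η, hη, fun k => by rw [← h k, h1]⟩
  · rintro ⟨η, hη, h1⟩
    exact ⟨η, hη, fun k => by rw [h k, h1]⟩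

theorem tst_cf {r : BrauerPairIdx G} {φ : G → ℂ} (t : G) :
    Tst (conjIdx t r) (cf t φ) ↔ Tst r φ := by
  rw [conjIdx, idxMap_test]
  apply tst_congr
  intro k
  show cf t φ (t * k * t⁻¹) = _
  rw [cf_apply]
  congr 1
  group

theorem exists_tst {M : Ideal AlgInt} [M.IsPrime] {r : BrauerPairIdx G} (h : IsPBlock M r.2) :
    ∃ ξ : IrrCharacter (Subgroup.centralizer (r.1 : Set G)), ξ ∈ r.2 ∧ Tst r (ei ξ) := by
  obtain ⟨ξ, hξ⟩ := isPBlock_nonempty h
  exact ⟨ξ, hξ, tst_ei.mpr hξ⟩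

/-- A function with `Tst` agrees with a member on the centralizer. -/
theorem exists_ei {r : BrauerPairIdx G} {φ : G → ℂ} (h : Tst r φ) :
    ∃ ξ ∈ r.2, ∀ g ∈ Subgroup.centralizer (r.1 : Set G), φ g = ei ξ g := by
  obtain ⟨ξ, hξ, h1⟩ := h
  exact ⟨ξ, hξ, fun g hg => by rw [h1 ⟨g, hg⟩, ei_of_mem ξ hg]⟩

theorem ei_injective {L : Subgroup G} {ξ ξ' : IrrCharacter L} (h : (ei ξ : G → ℂ) = ei ξ') :
    ξ = ξ' := by
  apply Subtype.ext
  funext k
  rw [← ei_coe ξ k, h, ei_coe]

theorem col_congr {q : ℕ} {r : BrauerPairIdx G} (hr : Good p q r) (v : G) (f : G → ℂ)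
    {φ φ' : G → ℂ} (h : Tst r φ) (h' : Tst r φ') : col p r.1 v f φ = col p r.1 v f φ' := by
  rw [col_def, col_def]
  exact rip_congr p _ (fun _ _ _ => rfl) fun x hx hx' => hr.eq φ φ' h h' x hx hx'

theorem conj_mem_centralizer_iff (t : G) (Q : Subgroup G) (x : G) :
    x ∈ Subgroup.centralizer (Q : Set G) ↔
      t * x * t⁻¹ ∈ Subgroup.centralizer ((Q.map (MulAut.conj t).toMonoidHom : Subgroup G) :
        Set G) := Cfsg.Agent.H644.mem_centralizer_map_conj Q t x

theorem col_cf (p : ℕ) (t v : G) (Q : Subgroup G) (f φ : G → ℂ) :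
    col p (Q.map (MulAut.conj t).toMonoidHom) (t * v * t⁻¹) (cf t f) (cf t φ) =
      col p Q v f φ := by
  rw [col_def, col_def]
  have h1 : (fun x => cf t f (t * v * t⁻¹ * x)) = cf t (fun x => f (v * x)) := by
    funext x
    rw [cf_apply, cf_apply]
    congr 1
    group
  rw [h1]
  exact rip_cf p t (conj_mem_centralizer_iff t Q) _ _

theorem cf_of_isClassFunction {f : G → ℂ} (hf : IsClassFunction G f) (t : G) : cf t f = f := by
  funext x
  rw [cf_apply]
  have h1 := hf x t⁻¹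
  rwa [inv_inv] at h1

theorem cf_cf (s t : G) (f : G → ℂ) : cf (s * t) f = cf s (cf t f) := by
  funext x
  rw [cf_apply, cf_apply, cf_apply]
  congr 1
  group

theorem cf_one (f : G → ℂ) : cf 1 f = f := by
  funext x
  rw [cf_apply]
  simp

/-- Members of a subgroup fix the class functions of the subgroup. -/
theorem cf_ei {L : Subgroup G} (ξ : IrrCharacter L) {t : G} (ht : t ∈ L) :
    cf t (ei ξ) = ei ξ := by
  funext x
  rw [cf_apply]
  by_cases hx : x ∈ L
  · have h1 : t⁻¹ * x * t ∈ L := L.mul_mem (L.mul_mem (L.inv_mem ht) hx) ht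
    rw [ei_of_mem ξ h1, ei_of_mem ξ hx]
    have h2 := Core.isIrr_isClassFunction ξ.2 ⟨x, hx⟩ ⟨t⁻¹, L.inv_mem ht⟩
    have h3 : (⟨t⁻¹ * x * t, h1⟩ : L) = ⟨t⁻¹, L.inv_mem ht⟩ * ⟨x, hx⟩ * ⟨t⁻¹, L.inv_mem ht⟩⁻¹ := by
      apply Subtype.ext
      show t⁻¹ * x * t = t⁻¹ * x * t⁻¹⁻¹
      rw [inv_inv]
    rw [h3]
    exact h2
  · rw [ei_of_notMem ξ hx, ei_of_notMem]
    intro h
    apply hx
    have h2 := L.mul_mem (L.mul_mem ht h) (L.inv_mem ht)
    have h3 : t * (t⁻¹ * x * t) * t⁻¹ = x := by group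
    rwa [h3] at h2

theorem W_eq_col (p : ℕ) (u : G) (b : BrauerPairIdx G) (χ : G → ℂ)
    (η : IrrCharacter (Subgroup.centralizer (b.1 : Set G))) :
    W p u b χ η = col p b.1 u χ (ei η) := by
  classical
  have := Fintype.ofFinite (Subgroup.centralizer (b.1 : Set G))
  rw [W_eq_sum, col_def, rip_eq_sum]
  congr 1
  refine Finset.sum_congr ?_ fun y _ => by rw [ei_coe]
  ext y
  simp only [Finset.mem_filter]

open Classical in
/-- The inner product over a subgroup. -/
noncomputable def ip (L : Subgroup G) (f g : G → ℂ) : ℂ :=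
  (Nat.card L : ℂ)⁻¹ * ∑ x : G, if x ∈ L then f x * conj (g x) else 0

open Classical in
theorem ip_def (L : Subgroup G) (f g : G → ℂ) :
    ip L f g = (Nat.card L : ℂ)⁻¹ * ∑ x : G, if x ∈ L then f x * conj (g x) else 0 := rfl

theorem ip_eq_classInner (L : Subgroup G) [Fintype L] (f g : G → ℂ) :
    ip L f g = classInner (fun x : L => f x) (fun x : L => g x) := by
  classical
  rw [ip_def, Core.classInner_def]
  congr 1
  rw [← Finset.sum_filter]
  have h3 : ∑ x : L, f x * conj (g x) =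
      ∑ x ∈ Finset.univ.map (Function.Embedding.subtype (· ∈ L)), f x * conj (g x) := by
    rw [Finset.sum_map]
    rfl
  rw [h3]
  refine Finset.sum_congr ?_ fun _ _ => rfl
  ext x
  simp

theorem ip_congr (L : Subgroup G) {f f' g g' : G → ℂ} (h : ∀ x ∈ L, f x = f' x)
    (h' : ∀ x ∈ L, g x = g' x) : ip L f g = ip L f' g' := by
  classical
  rw [ip_def, ip_def]
  congr 1
  refine Finset.sum_congr rfl fun x _ => ?_
  split_ifs with hx
  · rw [h x hx, h' x hx]
  · rfl

theorem ip_cf {L : Subgroup G} (h : G) (hL : ∀ x, x ∈ L ↔ h * x * h⁻¹ ∈ L) (f g : G → ℂ) :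
    ip L (cf h f) (cf h g) = ip L f g := by
  classical
  rw [ip_def, ip_def]
  congr 1
  rw [← Equiv.sum_comp (MulAut.conj h).toEquiv]
  refine Finset.sum_congr rfl fun x _ => ?_
  have h1 : (MulAut.conj h).toEquiv x = h * x * h⁻¹ := rfl
  rw [h1, ← hL, cf_apply, cf_apply]
  have h2 : h⁻¹ * (h * x * h⁻¹) * h = x := by group
  rw [h2]

section Mult

variable {L : Subgroup G}

theorem exists_mult (L : Subgroup G) (χ : IrrCharacter G) : ∃ m : IrrCharacter L → ℕ,
    ∀ ψ : IrrCharacter L, ip L (χ : G → ℂ) (ei ψ) = m ψ := by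
  have := Fintype.ofFinite L
  have hc : IsCharacter L (fun x : L => (χ : G → ℂ) x) :=
    Core.isCharacter_comp L.subtype (Core.isIrr_isCharacter χ.2)
  have h1 : ∀ ψ : IrrCharacter L, ∃ n : ℕ, ip L (χ : G → ℂ) (ei ψ) = n := by
    intro ψ
    rw [ip_eq_classInner]
    have h2 : (fun x : L => (ei ψ : G → ℂ) x) = (ψ : L → ℂ) := funext fun x => ei_coe ψ x
    rw [h2]
    exact Core.classInner_isNat hc (Core.isIrr_isCharacter ψ.2)
  choose m hm using h1
  exact ⟨m, hm⟩

/-- The multiplicity of `ψ` in the restriction of `χ`. -/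
noncomputable def mult (L : Subgroup G) (χ : IrrCharacter G) : IrrCharacter L → ℕ :=
  (exists_mult L χ).choose

theorem mult_spec (L : Subgroup G) (χ : IrrCharacter G) (ψ : IrrCharacter L) :
    ip L (χ : G → ℂ) (ei ψ) = mult L χ ψ := (exists_mult L χ).choose_spec ψ

/-- The restriction as a sum. -/
theorem apply_eq_sum [Fintype (IrrCharacter L)] (χ : IrrCharacter G) {x : G} (hx : x ∈ L) :
    (χ : G → ℂ) x = ∑ ψ : IrrCharacter L, (mult L χ ψ : ℂ) * ei ψ x := by
  have := Fintype.ofFinite L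
  have hc : IsCharacter L (fun x : L => (χ : G → ℂ) x) :=
    Core.isCharacter_comp L.subtype (Core.isIrr_isCharacter χ.2)
  have h1 := Core.classFunction_eq_sum (Core.isCharacter_isClassFunction hc)
  have h2 := congrFun h1 ⟨x, hx⟩
  rw [Finset.sum_apply] at h2
  refine h2.trans (Finset.sum_congr rfl fun ψ _ => ?_)
  rw [Pi.smul_apply, smul_eq_mul, ei_of_mem ψ hx, ← mult_spec, ip_eq_classInner]
  have h3 : (fun x : L => (ei ψ : G → ℂ) x) = (ψ : L → ℂ) := funext fun x => ei_coe ψ x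
  rw [h3]

/-- The expansion of a column of a character of `G`. -/
theorem col_eq_sum [Fintype (IrrCharacter L)] (χ : IrrCharacter G) {Q : Subgroup G} {v : G}
    (hv : v ∈ L) (hQ : Subgroup.centralizer (Q : Set G) ≤ L) (φ : G → ℂ) :
    col p Q v (χ : G → ℂ) φ = ∑ ψ : IrrCharacter L, (mult L χ ψ : ℂ) * col p Q v (ei ψ) φ := by
  have h1 : col p Q v (χ : G → ℂ) φ =
      col p Q v (fun x => ∑ ψ : IrrCharacter L, (mult L χ ψ : ℂ) * ei ψ x) φ := by
    rw [col_def, col_def]
    exact rip_congr p _ (fun x hx _ => apply_eq_sum χ (L.mul_mem hv (hQ hx))) fun _ _ _ => rfl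
  rw [h1, col_sum_left]
  exact Finset.sum_congr rfl fun ψ _ => col_smul_left p Q v _ _ _

end Mult

end Cfsg.Agent.H653.ColBasic
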