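import Mathlib
import Cfsg.Agent.H653.ColBasic
import Cfsg.Agent.H653.CycGroup
import Cfsg.Agent.H641.Inertial
import Cfsg.Agent.H641.CycAct
import Cfsg.Agent.H641.CycNil
import Cfsg.Agent.H641.CycQuot
import Cfsg.Agent.H642.F1
import Cfsg.Agent.H649.AbelLocal

/-!
# The pairs below a maximal Brauer pair with cyclic group

`Hyp p M B a z`: `a = (D, c)` is a maximal Brauer pair of `B`, `D` cyclic, `z ∈ D` of order `p`.

`Hyp.bel_data`: the pairs on `⟨v⟩`, `1 ≠ v ∈ D`, are nilpotent, `l = 1` and `k = |D|`.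

`rr p M a z v` is the pair below `a` on `⟨z⟩ ⟨v⟩`.
-/

set_option autoImplicit false
set_option linter.unusedSectionVars false

open Cfsg
open scoped ComplexConjugate

namespace Cfsg.Agent.H653.CycPairs

open Cfsg.Agent.Blocks.Local Cfsg.Agent.Characters
open Cfsg.Agent.H613.SubSys Cfsg.Agent.H613.SubFus
open Cfsg.Agent.H639 Cfsg.Agent.H649 Cfsg.Agent.H651
open Cfsg.Agent.H653.ColBasic

universe u

variable {G : Type u} [Group G] [Fintype G] {p : ℕ} [Fact p.Prime] {M : Ideal AlgInt} [M.IsPrime]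
  {B : Set (IrrCharacter G)} {a : BrauerPairIdx G} {z : G}

/-- The hypotheses. -/
structure Hyp (p : ℕ) (M : Ideal AlgInt) (B : Set (IrrCharacter G)) (a : BrauerPairIdx G) (z : G) :
    Prop where
  hM : IsPModular p M
  hmax : IsMaximalBrauerPair p M B a.1 a.2
  hcyc : IsCyclic a.1
  hz : z ∈ a.1
  hzo : orderOf z = p

open Classical in
/-- The pair below `a` on `⟨z⟩ ⟨v⟩`. -/
noncomputable def rr (p : ℕ) (M : Ideal AlgInt) (a : BrauerPairIdx G) (z v : G) :
    BrauerPairIdx G := if v = 1 then bel p M a z else bel p M a v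

theorem rr_one : rr p M a z 1 = bel p M a z := if_pos rfl

theorem rr_of_ne {v : G} (hv : v ≠ 1) : rr p M a z v = bel p M a v := if_neg hv

theorem comm_of_isCyclic {D : Subgroup G} (h : IsCyclic D) : ∀ x ∈ D, ∀ y ∈ D, x * y = y * x := by
  intro x hx y hy
  letI : CommGroup D := IsCyclic.commGroup
  exact congrArg Subtype.val (mul_comm (⟨x, hx⟩ : D) ⟨y, hy⟩)

theorem card_zpowers_of (hzo : orderOf z = p) : Nat.card (Subgroup.zpowers z) = p := by
  rw [Nat.card_zpowers, hzo]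

variable (h : Hyp p M B a z)

include h

theorem Hyp.isPGroup : IsPGroup p a.1 := h.hmax.1.1.1

theorem Hyp.z_ne : z ≠ 1 := by
  intro h1
  have h2 := h.hzo
  rw [h1, orderOf_one] at h2
  exact (Fact.out : p.Prime).one_lt.ne h2

theorem Hyp.comm : ∀ x ∈ a.1, ∀ y ∈ a.1, x * y = y * x := comm_of_isCyclic h.hcyc

theorem Hyp.pair : IsBrauerPair p M a.1 a.2 := h.hmax.1.1

theorem Hyp.zpowers_le : Subgroup.zpowers z ≤ a.1 := by
  rw [Subgroup.zpowers_le]
  exact h.hz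

theorem Hyp.z_mem_zpowers {v : G} (hv : v ∈ a.1) (hv1 : v ≠ 1) : z ∈ Subgroup.zpowers v :=
  CycGroup.le_zpowers h.isPGroup h.hcyc h.zpowers_le (card_zpowers_of h.hzo) hv hv1
    (Subgroup.mem_zpowers z)

/-- The group of the pair `rr`. -/
theorem Hyp.rr_fst {v : G} (hv : v ∈ a.1) :
    (rr p M a z v).1 = Subgroup.zpowers z ⊔ Subgroup.zpowers v := by
  by_cases h1 : v = 1
  · subst h1
    rw [rr_one, bel_fst, Subgroup.zpowers_one_eq_bot, sup_bot_eq]
  · rw [rr_of_ne h1, bel_fst, sup_eq_right.mpr]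
    rw [Subgroup.zpowers_le]
    exact h.z_mem_zpowers hv h1

theorem Hyp.rr_le {v : G} (hv : v ∈ a.1) : LEIdx p M (rr p M a z v) a := by
  by_cases h1 : v = 1
  · subst h1
    rw [rr_one]
    exact bel_le h.hM h.pair h.hz
  · rw [rr_of_ne h1]
    exact bel_le h.hM h.pair hv

theorem Hyp.rr_block {v : G} (hv : v ∈ a.1) : IsPBlock M (rr p M a z v).2 :=
  (LEIdx.isBrauerPair (h.rr_le hv) h.pair).2

theorem Hyp.z_mem_rr {v : G} (hv : v ∈ a.1) : z ∈ (rr p M a z v).1 := by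
  rw [h.rr_fst hv]
  exact Subgroup.mem_sup_left (Subgroup.mem_zpowers z)

theorem Hyp.mem_rr {v : G} (hv : v ∈ a.1) : v ∈ (rr p M a z v).1 := by
  rw [h.rr_fst hv]
  exact Subgroup.mem_sup_right (Subgroup.mem_zpowers v)

/-- Uniqueness. -/
theorem Hyp.eq_rr {v : G} (hv : v ∈ a.1) {c : BrauerPairIdx G} (h1 : c.1 = (rr p M a z v).1)
    (h2 : LEIdx p M c a) : c = rr p M a z v := by
  by_cases h3 : v = 1
  · subst h3
    rw [rr_one] at h1 ⊢
    exact eq_bel h.hM h.pair h1 h2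
  · rw [rr_of_ne h3] at h1 ⊢
    exact eq_bel h.hM h.pair h1 h2

theorem Hyp.le_rr {v : G} (hv : v ∈ a.1) : LEIdx p M (bel p M a z) (rr p M a z v) := by
  have h1 := Cfsg.Agent.H644.subpairLE_of_subpairLE (Q := Subgroup.zpowers z)
    (f := (bel p M a z).2) h.hM h.pair (bel_le h.hM h.pair h.hz) (h.rr_le hv)
    (by rw [Subgroup.zpowers_le]; exact h.z_mem_rr hv)
  exact h1

theorem Hyp.rr_le_a {v : G} (hv : v ∈ a.1) : (rr p M a z v).1 ≤ a.1 := LEIdx.le (h.rr_le hv)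

theorem Hyp.isNormalSubpair_rr {v : G} (hv : v ∈ a.1) :
    IsNormalSubpair p M (Subgroup.zpowers z) (bel p M a z).2 (rr p M a z v).1 (rr p M a z v).2 :=
  isNormalSubpair_of_leIdx h.hM (LEIdx.isBrauerPair (h.rr_le hv) h.pair)
    (fun x hx y hy => h.comm x (h.rr_le_a hv hx) y (h.rr_le_a hv hy)) (h.le_rr hv)

theorem Hyp.le_centralizer : a.1 ≤ Subgroup.centralizer ((Subgroup.zpowers z : Subgroup G) : Set G) :=
  le_centralizer_of_comm h.comm h.zpowers_le

theorem Hyp.centralizer_rr_le {v : G} (hv : v ∈ a.1) :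
    Subgroup.centralizer ((rr p M a z v).1 : Set G) ≤
      Subgroup.centralizer ((Subgroup.zpowers z : Subgroup G) : Set G) := by
  apply Subgroup.centralizer_le
  intro x hx
  obtain ⟨k, rfl⟩ := Subgroup.mem_zpowers_iff.mp hx
  exact Subgroup.zpow_mem _ (h.z_mem_rr hv) k

theorem Hyp.pelt {v : G} (hv : v ∈ a.1) : ∃ k : ℕ, orderOf v = p ^ k := by
  obtain ⟨k, hk⟩ := (IsPGroup.iff_orderOf.mp h.isPGroup) ⟨v, hv⟩
  exact ⟨k, by rw [← hk, Subgroup.orderOf_mk]⟩

/-! ### The stabilizer -/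

theorem Hyp.mem_normalizer {t : G} (ht : t ∈ idxStab a) : t ∈ Subgroup.normalizer (a.1 : Set G) := by
  rw [mem_normalizer_iff_map_conj]
  have h1 := congrArg Sigma.fst (mem_idxStab.mp ht)
  rwa [conjIdx_fst] at h1

theorem Hyp.conj_mem {t : G} (ht : t ∈ idxStab a) {v : G} (hv : v ∈ a.1) : t * v * t⁻¹ ∈ a.1 :=
  (Subgroup.mem_normalizer_iff.mp (h.mem_normalizer ht) v).mp hv

theorem Hyp.conjIdx_rr {t : G} (ht : t ∈ idxStab a) {v : G} (hv : v ∈ a.1) :
    conjIdx t (rr p M a z v) = rr p M a z (t * v * t⁻¹) := by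
  have hta : conjIdx t a = a := ht
  refine h.eq_rr (h.conj_mem ht hv) ?_ ?_
  · rw [conjIdx_fst, h.rr_fst hv, h.rr_fst (h.conj_mem ht hv), Subgroup.map_sup,
      MonoidHom.map_zpowers, MonoidHom.map_zpowers]
    congr 1
    -- the subgroup of order `p`
    refine CycGroup.eq_of_card_eq (p := p) h.hcyc (Q := Subgroup.zpowers ((MulAut.conj t).toMonoidHom z))
      ?_ h.zpowers_le ?_ (card_zpowers_of h.hzo)
    · rw [Subgroup.zpowers_le]
      exact h.conj_mem ht h.hz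
    · rw [Nat.card_zpowers]
      show orderOf (t * z * t⁻¹) = p
      rw [Cfsg.Agent.Blocks.Blau.orderOf_conj_eq]
      exact h.hzo
  · have h1 := (leIdx_conjIdx_iff t (p := p) (M := M) (a := rr p M a z v) (b := a)).2 (h.rr_le hv)
    rwa [hta] at h1

/-- The stabilizer is the stabilizer of `H644`. -/
theorem Hyp.idxStab_eq : idxStab a = Cfsg.Agent.H644.pairStab M a.1 a.2 := by
  ext x
  rw [Cfsg.Agent.H644.mem_pairStab_iff_stabilizesBlock h.hM h.pair.2]
  exact conjIdx_eq_iff (Q := a.1) (f := a.2) h.pair.2 x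

theorem Hyp.centralizer_le_stab : Subgroup.centralizer (a.1 : Set G) ≤ idxStab a := by
  rw [h.idxStab_eq]
  exact Cfsg.Agent.H644.centralizer_le_pairStab a.1 a.2

theorem Hyp.not_dvd : ¬ p ∣ (Subgroup.centralizer (a.1 : Set G)).relIndex (idxStab a) := by
  have h1 := Cfsg.Agent.H641.not_dvd_relIndex h.hM h.hmax
  have h2 : a.1 ⊔ Subgroup.centralizer (a.1 : Set G) = Subgroup.centralizer (a.1 : Set G) :=
    sup_eq_right.mpr (le_centralizer_of_comm h.comm le_rfl)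
  rw [h2] at h1
  rwa [h.idxStab_eq]

/-- The action of the stabilizer on `D` is free modulo the centralizer. -/
theorem Hyp.mem_centralizer {t : G} (ht : t ∈ idxStab a) {v : G} (hv : v ∈ a.1) (hv1 : v ≠ 1)
    (htv : t * v * t⁻¹ = v) : t ∈ Subgroup.centralizer (a.1 : Set G) :=
  Cfsg.Agent.H641.mem_centralizer_of_relIndex (Fact.out : p.Prime) h.isPGroup h.hcyc
    (fun _ hx => h.mem_normalizer hx) h.centralizer_le_stab h.not_dvd ht hv hv1 htv

/-- The pairs below `a` are nilpotent blocks with one Brauer character and `|D|` members. -/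
theorem Hyp.pair_data {c : BrauerPairIdx G} (hle : LEIdx p M c a) (hc1 : c.1 ≠ ⊥) :
    IsNilpotentBlock p M c.2 ∧ blockRank p c.2 = 1 ∧
      Nat.card c.2 = Nat.card a.1 ∧ Good p (Nat.card a.1) c := by
  obtain ⟨Q, e⟩ := c
  have hle' : SubpairLE p M Q e a.1 a.2 := hle
  have hnil : IsNilpotentBlock p M e :=
    Cfsg.Agent.H641.isNilpotentBlock_of_free h.hM h.hmax h.comm
      (fun t ht u hu hu1 htu => h.mem_centralizer ht hu hu1 htu) hc1 hle'
  have hPC : a.1 ≤ Subgroup.centralizer (Q : Set G) :=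
    le_centralizer_of_comm h.comm (LEIdx.le hle)
  obtain ⟨f, hf, -⟩ := exists_locIdx_eq h.hM h.pair hPC hle'
  have hmax' := isMaximal_local h.hM h.hmax hPC hle' hf
  have hab' : ∀ x ∈ a.1.subgroupOf (Subgroup.centralizer (Q : Set G)),
      ∀ y ∈ a.1.subgroupOf (Subgroup.centralizer (Q : Set G)), x * y = y * x := by
    intro x hx y hy
    exact Subtype.ext (h.comm _ (Subgroup.mem_subgroupOf.1 hx) _ (Subgroup.mem_subgroupOf.1 hy))
  have hcard : Nat.card (a.1.subgroupOf (Subgroup.centralizer (Q : Set G))) = Nat.card a.1 :=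
    Nat.card_congr (Subgroup.subgroupOfEquivOfLe hPC).toEquiv
  have := Fintype.ofFinite (Subgroup.centralizer (Q : Set G))
  refine ⟨hnil, (Cfsg.Agent.S4689.result p M h.hM _ hnil).1,
    (Cfsg.Agent.H642.F1.card_eq h.hM hmax' hab' hnil).trans hcard, ⟨?_, ?_⟩⟩
  · rintro φ φ' ⟨ξ, hξ, h1⟩ ⟨ξ', hξ', h1'⟩ g hg hgp
    have h2 := Cfsg.Agent.H642.F1.apply_eq h.hM hmax' hab' hnil hξ hξ' (g := ⟨g, hg⟩)
      (by rwa [Subgroup.orderOf_mk])
    rw [h1 ⟨g, hg⟩, h1' ⟨g, hg⟩]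
    exact h2
  · rintro φ φ' ⟨ξ, hξ, h1⟩ ⟨ξ', hξ', h1'⟩
    have h2 := Cfsg.Agent.H642.F1.rg_eq (G := Subgroup.centralizer (Q : Set G))
      h.hM hmax' hab' hnil hξ hξ'
    rw [hcard, ← rip_ei_ei] at h2
    rw [← h2]
    refine rip_congr p _ (fun x hx _ => ?_) fun x hx _ => ?_
    · rw [h1 ⟨x, hx⟩, ei_of_mem ξ hx]
    · rw [h1' ⟨x, hx⟩, ei_of_mem ξ' hx]

theorem Hyp.bel_data {v : G} (hv : v ∈ a.1) (hv1 : v ≠ 1) :
    IsNilpotentBlock p M (bel p M a v).2 ∧ blockRank p (bel p M a v).2 = 1 ∧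
      Nat.card (bel p M a v).2 = Nat.card a.1 ∧ Good p (Nat.card a.1) (bel p M a v) :=
  h.pair_data (bel_le h.hM h.pair hv) (by
    rw [bel_fst, Ne, Subgroup.zpowers_eq_bot]
    exact hv1)

theorem Hyp.good {v : G} (hv : v ∈ a.1) (hv1 : v ≠ 1) : Good p (Nat.card a.1) (bel p M a v) :=
  (h.bel_data hv hv1).2.2.2

theorem Hyp.rr_good {v : G} (hv : v ∈ a.1) : Good p (Nat.card a.1) (rr p M a z v) := by
  by_cases h1 : v = 1
  · subst h1
    rw [rr_one]
    exact h.good h.hz h.z_ne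
  · rw [rr_of_ne h1]
    exact h.good hv h1

/-- Fusion control. -/
theorem Hyp.exists_stab {x u v : G} (hu : u ∈ a.1) (hv : v ∈ a.1)
    (hx : x * u * x⁻¹ = v) (hxr : conjIdx x (rr p M a z u) = rr p M a z v) :
    ∃ c ∈ Subgroup.centralizer ((rr p M a z v).1 : Set G), c * x ∈ idxStab a ∧
      (c * x) * u * (c * x)⁻¹ = v := by
  have h1 : LEIdx p M (rr p M a z v) (conjIdx x a) := by
    rw [← hxr, leIdx_conjIdx_iff]
    exact h.rr_le hu
  obtain ⟨c, hc, h2⟩ := exists_conj_of_le h.hM h.hmax h.comm (h.rr_le hv) h1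
  refine ⟨c, hc, ?_, ?_⟩
  · show conjIdx (c * x) a = a
    rw [← conjIdx_conjIdx, h2]
  · have h3 : c * x * u * (c * x)⁻¹ = c * (x * u * x⁻¹) * c⁻¹ := by group
    rw [h3, hx]
    have h4 := Subgroup.mem_centralizer_iff.mp hc v (h.mem_rr hv)
    rw [← h4, mul_inv_cancel_right]

end Cfsg.Agent.H653.CycPairs
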