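import Mathlib
import Cfsg.Agent.H653.CycPairs

/-!
# Columns of a block with cyclic defect group

* `gram_self`, `gram_ne`: the columns of `b₁` (block of `C_G(z)`) at the elements of `D` are
  orthogonal;
* `cw_eq_sum`: expansion of the column of a character of `G`;
* `gramG_of_stab`, `gramG_of_not`: the columns of `B`;
* `cw_conj`: equivariance.
-/

set_option autoImplicit false
set_option linter.unusedSectionVars false

open Cfsg
open scoped ComplexConjugate

namespace Cfsg.Agent.H653.CycCols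

open Cfsg.Agent.Blocks.Local Cfsg.Agent.Characters
open Cfsg.Agent.H613.SubSys Cfsg.Agent.H613.SubFus Cfsg.Agent.H613.RegGram
open Cfsg.Agent.H639 Cfsg.Agent.H649 Cfsg.Agent.H651
open Cfsg.Agent.H653.ColBasic Cfsg.Agent.H653.CycPairs

universe u

variable {G : Type u} [Group G] [Fintype G] {p : ℕ} [Fact p.Prime] {M : Ideal AlgInt} [M.IsPrime]
  {B : Set (IrrCharacter G)} {a : BrauerPairIdx G} {z : G}

/-- The block of `C_G(z)`. -/
noncomputable def b1 (p : ℕ) (M : Ideal AlgInt) (a : BrauerPairIdx G) (z : G) :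
    Set (IrrCharacter (Subgroup.centralizer ((Subgroup.zpowers z : Subgroup G) : Set G))) :=
  (bel p M a z).2

open Classical in
/-- A function restricting to a member of the pair `rr`. -/
noncomputable def ph (p : ℕ) (M : Ideal AlgInt) (a : BrauerPairIdx G) (z v : G) : G → ℂ :=
  if h : ∃ φ, Tst (rr p M a z v) φ then h.choose else 0

/-- The column at `v`. -/
noncomputable def cw (p : ℕ) (M : Ideal AlgInt) (a : BrauerPairIdx G) (z v : G) (f : G → ℂ) : ℂ :=
  col p (rr p M a z v).1 v f (ph p M a z v)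

theorem cw_def (p : ℕ) (M : Ideal AlgInt) (a : BrauerPairIdx G) (z v : G) (f : G → ℂ) :
    cw p M a z v f = col p (rr p M a z v).1 v f (ph p M a z v) := rfl

theorem conj_cw_sub (v : G) (f g : G → ℂ) :
    cw p M a z v (fun x => f x - g x) = cw p M a z v f - cw p M a z v g := by
  classical
  rw [cw_def, cw_def, cw_def, col_def, col_def, col_def, rip_def, rip_def, rip_def, ← mul_sub,
    ← Finset.sum_sub_distrib]
  congr 1
  refine Finset.sum_congr rfl fun x _ => ?_
  split_ifs <;> ring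

variable (h : Hyp p M B a z)

include h

theorem isNormalSubpair_b1 {v : G} (hv : v ∈ a.1) :
    IsNormalSubpair p M (Subgroup.zpowers z) (b1 p M a z) (rr p M a z v).1 (rr p M a z v).2 :=
  h.isNormalSubpair_rr hv

theorem tst_ph {v : G} (hv : v ∈ a.1) : Tst (rr p M a z v) (ph p M a z v) := by
  have h1 : ∃ φ, Tst (rr p M a z v) φ := by
    obtain ⟨ξ, _, h2⟩ := exists_tst (h.rr_block hv)
    exact ⟨_, h2⟩
  unfold ph
  rw [dif_pos h1]
  exact h1.choose_spec

/-- Independence of the choice. -/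
theorem cw_eq {v : G} (hv : v ∈ a.1) (f : G → ℂ) {φ : G → ℂ} (hφ : Tst (rr p M a z v) φ) :
    cw p M a z v f = col p (rr p M a z v).1 v f φ :=
  col_congr (h.rr_good hv) v f (tst_ph h hv) hφ

/-- Equivariance. -/
theorem cw_conj {t : G} (ht : t ∈ idxStab a) {v : G} (hv : v ∈ a.1) (f : G → ℂ) :
    cw p M a z (t * v * t⁻¹) (cf t f) = cw p M a z v f := by
  have h1 : Tst (rr p M a z (t * v * t⁻¹)) (cf t (ph p M a z v)) := by
    rw [← h.conjIdx_rr ht hv]
    exact (tst_cf t).mpr (tst_ph h hv)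
  rw [cw_eq h (h.conj_mem ht hv) _ h1, ← h.conjIdx_rr ht hv, conjIdx_fst, col_cf, cw_def]

/-- The column at the identity. -/
theorem cw_one {ψ : IrrCharacter (Subgroup.centralizer ((Subgroup.zpowers z : Subgroup G) : Set G))}
    (hψ : ψ ∈ b1 p M a z) : cw p M a z 1 (ei ψ) = (Nat.card a.1 : ℂ)⁻¹ := by
  have h1 : Tst (rr p M a z 1) (ei ψ) := by
    rw [rr_one]
    exact tst_ei.mpr hψ
  have h2 := (h.rr_good a.1.one_mem).gram _ _ h1 (tst_ph h a.1.one_mem)
  rw [cw_def, col_def, ← h2]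
  congr 1
  funext x
  rw [one_mul]

/-- Column norms in `b₁`. -/
theorem gram_self {v : G} (hv : v ∈ a.1) [Fintype (b1 p M a z)] :
    ∑ ψ : b1 p M a z, cw p M a z v (ei ψ.1) * conj (cw p M a z v (ei ψ.1)) =
      (Nat.card a.1 : ℂ)⁻¹ := by
  obtain ⟨ξ, hξ, hξt⟩ := exists_tst (h.rr_block hv)
  have h1 := sum_col_mul_conj_col h.hM (h.le_centralizer hv) (h.pelt hv) (h.rr_fst hv)
    (isNormalSubpair_b1 h hv) hξ hξ
  rw [(h.rr_good hv).gram _ _ hξt hξt] at h1
  rw [← h1]
  exact Finset.sum_congr rfl fun ψ _ => by rw [cw_eq h hv _ hξt]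

/-- Different columns of `b₁` are orthogonal. -/
theorem gram_ne {v v' : G} (hv : v ∈ a.1) (hv' : v' ∈ a.1) (hne : v ≠ v')
    [Fintype (b1 p M a z)] :
    ∑ ψ : b1 p M a z, cw p M a z v (ei ψ.1) * conj (cw p M a z v' (ei ψ.1)) = 0 := by
  obtain ⟨ξ, hξ, hξt⟩ := exists_tst (h.rr_block hv)
  obtain ⟨ξ', hξ', hξt'⟩ := exists_tst (h.rr_block hv')
  by_cases hc : ∃ x ∈ Subgroup.centralizer ((Subgroup.zpowers z : Subgroup G) : Set G),
      x * v * x⁻¹ = v'
  · obtain ⟨x, hx, hxv⟩ := hc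
    -- the conjugate pair
    have hne' : conjIdx x (rr p M a z v) ≠ rr p M a z v' := by
      intro hcon
      obtain ⟨c, hc, hcx, hcv⟩ := h.exists_stab hv hv' hxv hcon
      have hcxz : (c * x) * z * (c * x)⁻¹ = z := by
        have h1 : c ∈ Subgroup.centralizer ((Subgroup.zpowers z : Subgroup G) : Set G) :=
          h.centralizer_rr_le hv' hc
        have h2 := Subgroup.mem_centralizer_iff.mp (mul_mem h1 hx) z (Subgroup.mem_zpowers z)
        rw [← h2, mul_inv_cancel_right]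
      have h3 := h.mem_centralizer hcx h.hz h.z_ne hcxz
      have h4 := Subgroup.mem_centralizer_iff.mp h3 v hv
      apply hne
      rw [← hcv, ← h4, mul_inv_cancel_right]
    have hfst : (conjIdx x (rr p M a z v)).1 = (rr p M a z v').1 := by
      rw [conjIdx_fst, h.rr_fst hv, h.rr_fst hv', Subgroup.map_sup, MonoidHom.map_zpowers,
        MonoidHom.map_zpowers]
      congr 2
      · show x * z * x⁻¹ = z
        have h2 := Subgroup.mem_centralizer_iff.mp hx z (Subgroup.mem_zpowers z)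
        rw [← h2, mul_inv_cancel_right]
    have h1 : ∀ ψ : b1 p M a z, cw p M a z v (ei ψ.1) =
        col p (conjIdx x (rr p M a z v)).1 v' (ei ψ.1) (cf x (ei ξ)) := by
      intro ψ
      rw [cw_eq h hv _ hξt, ← col_cf p x, conjIdx_fst, hxv]
      congr 1
      exact cf_ei ψ.1 hx
    have h2 : Tst (conjIdx x (rr p M a z v)) (cf x (ei ξ)) := (tst_cf x).mpr hξt
    have hblk : IsPBlock M (conjIdx x (rr p M a z v)).2 :=
      Cfsg.Agent.H649.isPBlock_blkMap (h.rr_block hv)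
    have h4 := isNormalSubpair_b1 h hv'
    have h5 := h.rr_fst hv'
    have h6 : ∀ ψ : b1 p M a z, cw p M a z v' (ei ψ.1) =
        col p (rr p M a z v').1 v' (ei ψ.1) (ei ξ') := fun ψ => cw_eq h hv' _ hξt'
    rw [Finset.sum_congr rfl fun ψ _ => by rw [h1 ψ, h6 ψ]]
    clear h1 h6 hξt'
    generalize hr : conjIdx x (rr p M a z v) = r at *
    generalize hr' : rr p M a z v' = r' at *
    obtain ⟨Q, f⟩ := r
    obtain ⟨Q', f'⟩ := r'
    have h7 : Q = Q' := hfst
    subst h7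
    obtain ⟨η, hη, hηx⟩ := exists_ei h2
    have h8 : η ∉ f' := by
      intro hcon
      apply hne'
      have h9 : f = f' := Cfsg.Agent.Blocks.Basic.isPBlock_eq_of_mem hblk h4.2.1.2 hη hcon
      rw [h9]
    have h9 : ∀ ψ : b1 p M a z, col p Q v' (ei ψ.1) (cf x (ei ξ)) =
        col p Q v' (ei ψ.1) (ei η) := by
      intro ψ
      rw [col_def, col_def]
      exact rip_congr p _ (fun _ _ _ => rfl) fun y hy _ => hηx y hy
    have h10 := sum_col_ne_block h.hM (h.le_centralizer hv') (h.pelt hv') h5 h4 hξ' h8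
    have h11 : ∑ ψ : b1 p M a z, col p Q v' (ei ψ.1) (cf x (ei ξ)) *
        conj (col p Q v' (ei ψ.1) (ei ξ')) =
        conj (∑ ψ : b1 p M a z, col p Q v' (ei ψ.1) (ei ξ') *
          conj (col p Q v' (ei ψ.1) (ei η))) := by
      rw [map_sum]
      refine Finset.sum_congr rfl fun ψ _ => ?_
      rw [map_mul, Complex.conj_conj, h9 ψ, mul_comm]
    rw [h11]
    have h12 : ∑ ψ : b1 p M a z, col p Q v' (ei ψ.1) (ei ξ') *
          conj (col p Q v' (ei ψ.1) (ei η)) = 0 := h10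
    rw [h12, map_zero]
  · push Not at hc
    have h1 := sum_col_not_conj h.hM (h.le_centralizer hv) (h.pelt hv) (h.rr_fst hv)
      (isNormalSubpair_b1 h hv) (h.le_centralizer hv') (h.pelt hv') (h.rr_fst hv')
      (isNormalSubpair_b1 h hv') hc ξ ξ'
    rw [← h1]
    exact Finset.sum_congr rfl fun ψ _ => by rw [cw_eq h hv _ hξt, cw_eq h hv' _ hξt']

/-- The expansion of the column of a character of `G`. -/
theorem cw_eq_sum {v : G} (hv : v ∈ a.1) [Fintype (b1 p M a z)] (χ : IrrCharacter G) :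
    cw p M a z v (χ : G → ℂ) = ∑ ψ : b1 p M a z,
      (mult (Subgroup.centralizer ((Subgroup.zpowers z : Subgroup G) : Set G)) χ ψ.1 : ℂ) *
        cw p M a z v (ei ψ.1) := by
  classical
  have := Core.finite_irr
    (G := Subgroup.centralizer ((Subgroup.zpowers z : Subgroup G) : Set G))
  have := Fintype.ofFinite
    (IrrCharacter (Subgroup.centralizer ((Subgroup.zpowers z : Subgroup G) : Set G)))
  obtain ⟨ξ, hξ, hξt⟩ := exists_tst (h.rr_block hv)
  rw [cw_eq h hv _ hξt, col_eq_sum (L := Subgroup.centralizer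
    ((Subgroup.zpowers z : Subgroup G) : Set G)) χ (h.le_centralizer hv) (h.centralizer_rr_le hv)]
  have h1 : ∀ ψ : IrrCharacter (Subgroup.centralizer ((Subgroup.zpowers z : Subgroup G) : Set G)),
      ψ ∉ b1 p M a z → (mult _ χ ψ : ℂ) * col p (rr p M a z v).1 v (ei ψ) (ei ξ) = 0 := by
    intro ψ hψ
    rw [col_eq_zero h.hM (h.le_centralizer hv) (h.pelt hv) (h.rr_fst hv)
      (isNormalSubpair_b1 h hv) hψ hξ, mul_zero]
  rw [← Finset.sum_subset (Finset.subset_univ ((b1 p M a z).toFinset))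
    (fun ψ _ hψ => h1 ψ (fun h2 => hψ (Set.mem_toFinset.mpr h2)))]
  rw [← Finset.sum_coe_sort ((b1 p M a z).toFinset)]
  refine Fintype.sum_equiv (Equiv.subtypeEquivRight fun ψ => Set.mem_toFinset) _ _ fun ψ => ?_
  rw [cw_eq h hv _ hξt]
  rfl

theorem cw_eq_W {u : G} (hu : u ∈ a.1) (hu1 : u ≠ 1) (χ : G → ℂ)
    {η : IrrCharacter (Subgroup.centralizer ((bel p M a u).1 : Set G))}
    (hη : η ∈ (bel p M a u).2) : cw p M a z u χ = W p u (bel p M a u) χ η := by
  have h1 : Tst (rr p M a z u) (ei η) := by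
    rw [rr_of_ne hu1]
    exact tst_ei.mpr hη
  rw [cw_eq h hu _ h1, W_eq_col, rr_of_ne hu1]

/-- The columns of `B` at elements conjugate under the stabilizer. -/
theorem gramG_of_stab {u u' : G} (hu : u ∈ a.1) (hu1 : u ≠ 1) {t : G} (ht : t ∈ idxStab a)
    (htu : t * u * t⁻¹ = u') [Fintype B] :
    ∑ χ : B, cw p M a z u (χ.1 : G → ℂ) * conj (cw p M a z u' (χ.1 : G → ℂ)) =
      (Nat.card a.1 : ℂ)⁻¹ := by
  obtain ⟨η, hη⟩ := Cfsg.Agent.Blocks.Basic.isPBlock_nonempty (isPBlock_bel h.hM h.pair hu)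
  have := Fintype.ofFinite (Subgroup.centralizer ((bel p M a u).1 : Set G))
  have h1 : ∀ χ : B, cw p M a z u' (χ.1 : G → ℂ) = cw p M a z u (χ.1 : G → ℂ) := by
    intro χ
    have h2 := cw_conj h ht hu (χ.1 : G → ℂ)
    rwa [htu, cf_of_isClassFunction (Core.isIrr_isClassFunction χ.1.2)] at h2
  have h3 := (isSubsec_bel h.hM h.hmax hu).sum_W_mul_conj_W h.hM hη hη
  rw [← rip_ei_ei, (h.good hu hu1).gram _ _ (tst_ei.mpr hη) (tst_ei.mpr hη)] at h3
  rw [← h3]
  refine Finset.sum_congr rfl fun χ _ => ?_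
  rw [h1 χ, cw_eq_W h hu hu1 _ hη]

/-- The columns of `B` at elements not conjugate under the stabilizer. -/
theorem gramG_of_not {u u' : G} (hu : u ∈ a.1) (hu1 : u ≠ 1) (hu' : u' ∈ a.1) (hu1' : u' ≠ 1)
    (hnot : ∀ t ∈ idxStab a, t * u * t⁻¹ ≠ u') [Fintype B] :
    ∑ χ : B, cw p M a z u (χ.1 : G → ℂ) * conj (cw p M a z u' (χ.1 : G → ℂ)) = 0 := by
  obtain ⟨η, hη⟩ := Cfsg.Agent.Blocks.Basic.isPBlock_nonempty (isPBlock_bel h.hM h.pair hu)
  obtain ⟨η', hη'⟩ := Cfsg.Agent.Blocks.Basic.isPBlock_nonempty (isPBlock_bel h.hM h.pair hu')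
  have h1 := orth_of_not_conj h.hM (isSubsec_bel h.hM h.hmax hu) (isSubsec_bel h.hM h.hmax hu')
    (by
      rintro ⟨x, hx, hxr⟩
      obtain ⟨c, _, hc1, hc2⟩ := h.exists_stab hu hu' hx (by
        rw [rr_of_ne hu1, rr_of_ne hu1']
        exact hxr)
      exact hnot _ hc1 hc2) hη hη'
  rw [← h1]
  refine Finset.sum_congr rfl fun χ _ => ?_
  rw [cw_eq_W h hu hu1 _ hη, cw_eq_W h hu' hu1' _ hη']

end Cfsg.Agent.H653.CycCols
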