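import Mathlib
import Cfsg.Agent.Blocks.CyclicLower2

/-!
# Sums over cosets

For `F : G → M` with `F (g * h) = F g` for `h ∈ H`, the sum of `F` over `G ⧸ H` is
`csum H F = ∑ q : G ⧸ H, F q.out`.
-/

set_option autoImplicit false

namespace Cfsg.Agent.H653.Coset

open Cfsg.Agent.Blocks.CyclicLower2

variable {G : Type*} [Group G] [Finite G] {M : Type*} [AddCommMonoid M]

/-- The sum over the left cosets of `H`. -/
noncomputable def csum (H : Subgroup G) (F : G → M) : M :=
  letI := Fintype.ofFinite (G ⧸ H)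
  ∑ q : G ⧸ H, F q.out

theorem csum_def (H : Subgroup G) [inst : Fintype (G ⧸ H)] (F : G → M) :
    csum H F = ∑ q : G ⧸ H, F q.out := by
  have : inst = Fintype.ofFinite (G ⧸ H) := Subsingleton.elim _ _
  subst this
  rfl

omit [Finite G] in
theorem out_eq {H : Subgroup G} (g : G) : ∃ h ∈ H, (QuotientGroup.mk g : G ⧸ H).out = g * h := by
  have h1 : (QuotientGroup.mk ((QuotientGroup.mk g : G ⧸ H).out) : G ⧸ H) = QuotientGroup.mk g :=
    QuotientGroup.out_eq' _
  have h2 := (QuotientGroup.eq.1 h1.symm)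
  exact ⟨g⁻¹ * (QuotientGroup.mk g : G ⧸ H).out, h2, by group⟩

omit [Finite G] [AddCommMonoid M] in
theorem apply_out {H : Subgroup G} {F : G → M} (hF : ∀ g, ∀ h ∈ H, F (g * h) = F g) (g : G) :
    F (QuotientGroup.mk g : G ⧸ H).out = F g := by
  obtain ⟨h, hh, e⟩ := out_eq (H := H) g
  rw [e, hF g h hh]

/-- Left translation. -/
theorem csum_mul_left (H : Subgroup G) {F : G → M} (hF : ∀ g, ∀ h ∈ H, F (g * h) = F g) (x : G) :
    csum H (fun g => F (x * g)) = csum H F := by
  classical
  have := Fintype.ofFinite (G ⧸ H)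
  rw [csum_def, csum_def, ← Equiv.sum_comp (MulAction.toPerm x : Equiv.Perm (G ⧸ H))
    (fun q => F q.out)]
  refine Finset.sum_congr rfl fun q _ => ?_
  have h1 : (MulAction.toPerm x q : G ⧸ H) = QuotientGroup.mk (x * q.out) := by
    conv_lhs => rw [← QuotientGroup.out_eq' q]
    rfl
  rw [h1, apply_out hF]

theorem csum_congr {H : Subgroup G} {F F' : G → M} (h : ∀ g, F g = F' g) :
    csum H F = csum H F' := by
  have : F = F' := funext h
  rw [this]

theorem csum_add (H : Subgroup G) (F F' : G → M) :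
    csum H (fun g => F g + F' g) = csum H F + csum H F' := by
  have := Fintype.ofFinite (G ⧸ H)
  rw [csum_def, csum_def, csum_def, Finset.sum_add_distrib]

theorem map_csum {N Φ : Type*} [AddCommMonoid N] [FunLike Φ M N] [AddMonoidHomClass Φ M N]
    (f : Φ) (H : Subgroup G) (F : G → M) : f (csum H F) = csum H (fun g => f (F g)) := by
  have := Fintype.ofFinite (G ⧸ H)
  rw [csum_def, csum_def, map_sum]

/-- Transitivity: the inner sum runs over the cosets of `D` in `C`. -/
theorem csum_trans {D C : Subgroup G} (hDC : D ≤ C) {F : G → M}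
    (hF : ∀ g, ∀ h ∈ D, F (g * h) = F g) :
    csum C (fun g => csum (D.subgroupOf C) (fun c : C => F (g * c))) = csum D F := by
  classical
  have := Fintype.ofFinite (G ⧸ D)
  have := Fintype.ofFinite (G ⧸ C)
  have := Fintype.ofFinite (C ⧸ D.subgroupOf C)
  rw [csum_def, csum_def,
    ← Equiv.sum_comp (Subgroup.quotientEquivProdOfLE hDC).symm (fun q => F q.out),
    Fintype.sum_prod_type]
  refine Finset.sum_congr rfl fun q _ => ?_
  rw [csum_def]
  refine Finset.sum_congr rfl fun r _ => ?_
  have h1 : (Subgroup.quotientEquivProdOfLE hDC).symm (q, r) =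
      QuotientGroup.mk (q.out * (r.out : G)) := by
    rw [Subgroup.quotientEquivProdOfLE_symm_apply]
    conv_lhs => rw [← QuotientGroup.out_eq' r]
    rfl
  rw [h1, apply_out hF]

/-- A function supported on a subgroup `T ≥ H`, and constant there. -/
theorem csum_const_on [DecidableEq G] {H T : Subgroup G} (hHT : H ≤ T) (F : G → M) (m : M)
    (h1 : ∀ g ∈ T, F g = m) (h0 : ∀ g ∉ T, F g = 0) : csum H F = (H.relIndex T) • m := by
  classical
  have := Fintype.ofFinite (G ⧸ H)
  have := Fintype.ofFinite (G ⧸ T)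
  have := Fintype.ofFinite (T ⧸ H.subgroupOf T)
  have hF : ∀ g, ∀ h ∈ H, F (g * h) = F g := by
    intro g h hh
    by_cases hg : g ∈ T
    · rw [h1 g hg, h1 _ (T.mul_mem hg (hHT hh))]
    · rw [h0 g hg, h0]
      intro hc
      exact hg ((T.mul_mem_cancel_right (hHT hh)).1 hc)
  rw [← csum_trans hHT hF, csum_def, Finset.sum_eq_single (QuotientGroup.mk 1 : G ⧸ T)]
  · obtain ⟨t, ht, e⟩ := out_eq (H := T) (1 : G)
    rw [csum_def]
    rw [Finset.sum_congr rfl (g := fun _ => m), Finset.sum_const, Finset.card_univ]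
    · rw [Subgroup.relIndex, Subgroup.index, Nat.card_eq_fintype_card]
    · intro r _
      rw [h1]
      rw [e, one_mul]
      exact T.mul_mem ht r.out.2
  · intro q _ hq
    rw [csum_def]
    refine Finset.sum_eq_zero fun r _ => ?_
    apply h0
    intro hc
    apply hq
    have h2 : q.out ∈ T := (T.mul_mem_cancel_right r.out.2).1 hc
    rw [← QuotientGroup.out_eq' q, QuotientGroup.eq]
    simpa using h2
  · intro h
    exact absurd (Finset.mem_univ _) h

/-- A function supported outside the subgroup `N ≥ D`, transforming under left translation by `D`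
through an action, is a trace if `D` acts freely on the cosets outside `N`. -/
theorem exists_csum_eq_sum_of_free {D N : Subgroup G} (hDN : D ≤ N)
    (hfree : ∀ g ∉ N, ∀ d ∈ D, g⁻¹ * d * g ∈ D → d = 1) {F : G → M}
    (hF : ∀ g, ∀ h ∈ D, F (g * h) = F g) (hF0 : ∀ g ∈ N, F g = 0)
    (act : G → M →+ M) (hact : ∀ g, ∀ d ∈ D, F (d * g) = act d (F g)) [Fintype D] :
    ∃ m : M, csum D F = ∑ d : D, act (d : G) m := by
  classical
  have := Fintype.ofFinite (G ⧸ D)
  let s : Finset (G ⧸ D) := Finset.univ.filter (fun q => q.out ∉ N)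
  have hs : ∀ q : G ⧸ D, q ∈ s ↔ q.out ∉ N := fun q => by simp [s]
  have hout : ∀ (d : D) (q : G ⧸ D), ∃ h ∈ D, (d • q).out = d * q.out * h := by
    intro d q
    have h1 : (d • q : G ⧸ D) = QuotientGroup.mk ((d : G) * q.out) := by
      conv_lhs => rw [← QuotientGroup.out_eq' q]
      rfl
    rw [h1]
    exact out_eq _
  obtain ⟨t, hts, ht⟩ := exists_reps_of_free (P := D) s (by
      intro d q hq
      rw [hs] at hq ⊢
      obtain ⟨h, hh, e⟩ := hout d q
      rw [e]
      intro hc
      apply hq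
      have h2 := (N.mul_mem_cancel_right (hDN hh)).1 hc
      exact (N.mul_mem_cancel_left (hDN d.2)).1 h2) (by
      intro d q hq hdq
      rw [hs] at hq
      obtain ⟨h, hh, e⟩ := hout d q
      rw [hdq] at e
      have h2 : q.out⁻¹ * (d : G) * q.out ∈ D := by
        have h3 : q.out⁻¹ * (d : G) * q.out = h⁻¹ := by
          rw [eq_inv_iff_mul_eq_one]
          calc q.out⁻¹ * (d : G) * q.out * h = q.out⁻¹ * (d * q.out * h) := by group
            _ = q.out⁻¹ * q.out := by rw [← e]
            _ = 1 := by group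
        rw [h3]
        exact D.inv_mem hh
      exact Subtype.ext (hfree _ hq _ d.2 h2))
  refine ⟨∑ q ∈ t, F q.out, ?_⟩
  have h1 : csum D F = ∑ q ∈ s, F q.out := by
    rw [csum_def, ← Finset.sum_filter_add_sum_filter_not Finset.univ (fun q : G ⧸ D => q.out ∉ N)]
    rw [show ∑ q ∈ Finset.univ.filter (fun q : G ⧸ D => ¬ (q.out ∉ N)), F q.out = 0 from
      Finset.sum_eq_zero fun q hq => hF0 _ (by simpa using hq), add_zero]
  rw [h1, ht (fun q => F q.out), Finset.sum_comm]
  refine Finset.sum_congr rfl fun d _ => ?_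
  rw [map_sum]
  refine Finset.sum_congr rfl fun q _ => ?_
  obtain ⟨h, hh, e⟩ := hout d q
  rw [e, hF _ h hh, hact _ _ d.2]

end Cfsg.Agent.H653.Coset
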