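import Mathlib
import Cfsg.Agent.H653.Coset
import Cfsg.Agent.H644.Brauer

/-!
# Endomorphisms of a simple module commuting with a local subgroup

`D ≤ C ≤ T ≤ N` are subgroups of `G`, `D` acts freely on the cosets `g D` with `g ∉ N`, and `e` is an
idempotent of `K[C]` which is a relative trace from `D`, commutes with `T` and is orthogonal to its
conjugates by the elements of `N` outside `T`.  If `S` is a simple `K[G]`-module and `α` is an
endomorphism of `e S` commuting with `C`, then the relative trace of `α` from `C` to `T` is a scalar,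
up to a trace from the trivial subgroup to `D`.
-/

set_option autoImplicit false

namespace Cfsg.Agent.H653.ScalarTrace

open Cfsg.Agent.Blocks.CyclicLower Cfsg.Agent.H653.Coset
open Cfsg.Agent.H644 (emb)

variable {K : Type*} [Field K] {G : Type*} [Group G] [Finite G]

section Lm

variable {S : Type*} [AddCommGroup S] [Module K S] [Module (MonoidAlgebra K G) S]
  [IsScalarTower K (MonoidAlgebra K G) S]

/-- The operator of multiplication by `a`. -/
noncomputable def lm (S : Type*) [AddCommGroup S] [Module K S] [Module (MonoidAlgebra K G) S]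
    [IsScalarTower K (MonoidAlgebra K G) S] (a : MonoidAlgebra K G) : S →ₗ[K] S where
  toFun s := a • s
  map_add' := smul_add a
  map_smul' c s := smul_comm' c a s

omit [Finite G] in
@[simp] theorem lm_apply (a : MonoidAlgebra K G) (s : S) : lm S a s = a • s := rfl

omit [Finite G] in
theorem lm_mul (a b : MonoidAlgebra K G) : lm S (a * b) = lm S a ∘ₗ lm S b :=
  LinearMap.ext fun s => mul_smul a b s

/-- Conjugation of operators by a group element. -/
noncomputable def cjO (K : Type*) [Field K] {G : Type*} [Group G] (S : Type*) [AddCommGroup S]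
    [Module K S] [Module (MonoidAlgebra K G) S] [IsScalarTower K (MonoidAlgebra K G) S] (g : G) : (S →ₗ[K] S) →+ (S →ₗ[K] S) where
  toFun φ := lm S (el K g) ∘ₗ φ ∘ₗ lm S (el K g⁻¹)
  map_zero' := by simp
  map_add' φ ψ := by rw [LinearMap.add_comp, LinearMap.comp_add]

omit [Finite G] in
theorem cjO_apply (g : G) (φ : S →ₗ[K] S) (s : S) :
    cjO K S g φ s = el K g • φ (el K g⁻¹ • s) := rfl

omit [Finite G] in
theorem cjO_mul (g h : G) (φ : S →ₗ[K] S) : cjO K S (g * h) φ = cjO K S g (cjO K S h φ) := by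
  refine LinearMap.ext fun s => ?_
  rw [cjO_apply, cjO_apply, cjO_apply, mul_inv_rev, ← el_mul, ← el_mul, mul_smul, mul_smul]

omit [Finite G] in
/-- A map commuting with the elements of `C` commutes with `K[C]`. -/
theorem map_emb_smul {S' : Type*} [AddCommGroup S'] [Module K S'] [Module (MonoidAlgebra K G) S']
    [IsScalarTower K (MonoidAlgebra K G) S'] {C : Subgroup G} {α : S →ₗ[K] S'}
    (hα : ∀ c ∈ C, ∀ s, α (el K c • s) = el K c • α s) (a : MonoidAlgebra K C) (s : S) :
    α (emb C a • s) = emb C a • α s := by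
  induction a using MonoidAlgebra.induction_linear with
  | zero => simp
  | add x y hx hy => rw [map_add, add_smul, add_smul, map_add, hx, hy]
  | single c r =>
    have h1 : emb C (MonoidAlgebra.single c r) = r • el K (c : G) := by
      change MonoidAlgebra.mapDomainAlgHom K K C.subtype (MonoidAlgebra.single c r) = _
      simp
    rw [h1, smul_assoc, smul_assoc, map_smul, hα c c.2]

end Lm

/-- The local data. -/
structure LD (D C T N : Subgroup G) (e c₀ : MonoidAlgebra K C) : Prop where
  hDC : D ≤ C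
  hCT : C ≤ T
  hTN : T ≤ N
  ee : emb C e * emb C e = emb C e
  comm : ∀ t ∈ T, el K t * emb C e = emb C e * el K t
  off : ∀ g ∈ N, g ∉ T → emb C e * el K g * emb C e = 0
  cD : ∀ d ∈ D, el K d * emb C c₀ = emb C c₀ * el K d
  tr : csum (D.subgroupOf C) (fun c : C => el K (c : G) * emb C c₀ * el K (c : G)⁻¹) = emb C e
  free : ∀ g ∉ N, ∀ d ∈ D, g⁻¹ * d * g ∈ D → d = 1

variable {D C T N : Subgroup G} {e c₀ : MonoidAlgebra K C}

variable {S : Type*} [AddCommGroup S] [Module K S] [Module (MonoidAlgebra K G) S]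
  [IsScalarTower K (MonoidAlgebra K G) S]

open scoped Classical in
/-- **Endomorphisms of `e S` commuting with `C` trace to scalars modulo traces from `1` to `D`.** -/
theorem exists_scalar [IsAlgClosed K] [FiniteDimensional K S]
    [hS : IsSimpleModule (MonoidAlgebra K G) S] (h : LD D C T N e c₀) [Fintype D] (α : S →ₗ[K] S)
    (hα : ∀ c ∈ C, ∀ s, α (el K c • s) = el K c • α s)
    (hα1 : ∀ s, emb C e • α s = α s) (hα2 : ∀ s, α (emb C e • s) = α s) :
    ∃ (κ : K) (γ : S →ₗ[K] S), ∀ s, κ • (emb C e • s) =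
      csum C (fun g => if g ∈ T then el K g • α (el K g⁻¹ • s) else 0) +
        ∑ d : D, el K (d : G) • γ (el K (d : G)⁻¹ • s) := by
  set E := lm S (emb C e) with hE
  set β : S →ₗ[K] S := lm S (emb C c₀) ∘ₗ α with hβ
  have hβs : ∀ s, β s = emb C c₀ • α s := fun s => rfl
  have hαE1 : E ∘ₗ α = α := LinearMap.ext fun s => hα1 s
  have hαE2 : α ∘ₗ E = α := LinearMap.ext fun s => hα2 s
  -- `e` commutes with `c₀`
  have hec : emb C e * emb C c₀ = emb C c₀ * emb C e := by
    have h1 := map_emb_smul (K := K) (G := G) (S := MonoidAlgebra K G) (S' := MonoidAlgebra K G)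
      (C := C) (α := lm (MonoidAlgebra K G) (emb C e))
      (fun c hc s => by
        rw [lm_apply, lm_apply, smul_eq_mul, smul_eq_mul, smul_eq_mul, smul_eq_mul, ← mul_assoc,
          ← h.comm c (h.hCT hc), mul_assoc]) c₀ 1
    simpa using h1
  have hβE1 : E ∘ₗ β = β := by
    rw [hβ, ← LinearMap.comp_assoc, hE, ← lm_mul, hec, lm_mul, LinearMap.comp_assoc, ← hE, hαE1]
  have hβE2 : β ∘ₗ E = β := by rw [hβ, LinearMap.comp_assoc, hαE2]
  let F : G → (S →ₗ[K] S) := fun g => cjO K S g β
  have hβD : ∀ d ∈ D, cjO K S d β = β := by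
    intro d hd
    refine LinearMap.ext fun s => ?_
    rw [cjO_apply, hβs, hα _ (inv_mem (h.hDC hd)), ← mul_smul, h.cD d hd, mul_smul,
      ← mul_smul (el K d), el_mul, mul_inv_cancel, el_one, one_smul, hβs]
  have hFD : ∀ g, ∀ d ∈ D, F (g * d) = F g := by
    intro g d hd
    show cjO K S (g * d) β = cjO K S g β
    rw [cjO_mul, hβD d hd]
  have hFact : ∀ g x : G, F (x * g) = cjO K S x (F g) := fun g x => cjO_mul x g β
  set Z : S →ₗ[K] S := csum D F with hZ
  have hZinv : ∀ x : G, cjO K S x Z = Z := by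
    intro x
    rw [hZ, map_csum, ← csum_mul_left D hFD x]
    exact csum_congr fun g => (hFact g x).symm
  -- `Z` is a scalar
  obtain ⟨κ, hκ⟩ : ∃ κ : K, ∀ s, Z s = κ • s := by
    let Z' : S →ₗ[MonoidAlgebra K G] S := MonoidAlgebra.equivariantOfLinearOfComm Z fun x s => by
      change Z (el K x • s) = el K x • Z s
      have h1 := LinearMap.congr_fun (hZinv x) (el K x • s)
      rw [cjO_apply, ← mul_smul, el_mul, inv_mul_cancel, el_one, one_smul] at h1
      exact h1.symm
    obtain ⟨c, hc⟩ := (IsSimpleModule.algebraMap_end_bijective_of_isAlgClosed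
      (A := MonoidAlgebra K G) (V := S) K).2 Z'
    refine ⟨c, fun s => ?_⟩
    have h2 : Z' s = Z s := rfl
    rw [← h2, ← hc]
    rfl
  -- decomposition
  let FN : G → (S →ₗ[K] S) := fun g => if g ∈ N then F g else 0
  let FO : G → (S →ₗ[K] S) := fun g => if g ∈ N then 0 else F g
  let FT : G → (S →ₗ[K] S) := fun g => if g ∈ T then F g else 0
  have hDN : D ≤ N := h.hDC.trans (h.hCT.trans h.hTN)
  have hDT : D ≤ T := h.hDC.trans h.hCT
  have hsum : Z = csum D FN + csum D FO := by
    rw [hZ, ← csum_add]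
    refine csum_congr fun g => ?_
    show F g = (if g ∈ N then F g else 0) + (if g ∈ N then 0 else F g)
    split_ifs <;> simp
  obtain ⟨m, hm⟩ := exists_csum_eq_sum_of_free (D := D) (N := N) hDN h.free (F := FO)
    (fun g d hd => by
      show (if g * d ∈ N then (0 : S →ₗ[K] S) else F (g * d)) = if g ∈ N then 0 else F g
      rw [hFD g d hd, N.mul_mem_cancel_right (hDN hd)])
    (fun g hg => by
      show (if g ∈ N then (0 : S →ₗ[K] S) else F g) = 0
      rw [if_pos hg])
    (cjO K S) (fun g d hd => by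
      show (if d * g ∈ N then (0 : S →ₗ[K] S) else F (d * g)) =
        cjO K S d (if g ∈ N then 0 else F g)
      rw [hFact, N.mul_mem_cancel_left (hDN hd)]
      split_ifs
      · rw [map_zero]
      · rfl)
  -- the part in `N`
  have hcommE : ∀ t ∈ T, E ∘ₗ lm S (el K t) = lm S (el K t) ∘ₗ E := by
    intro t ht
    rw [hE, ← lm_mul, ← lm_mul, h.comm t ht]
  have hEcj : ∀ t ∈ T, ∀ φ : S →ₗ[K] S, E ∘ₗ cjO K S t φ ∘ₗ E = cjO K S t (E ∘ₗ φ ∘ₗ E) := by
    intro t ht φ
    show E ∘ₗ (lm S (el K t) ∘ₗ φ ∘ₗ lm S (el K t⁻¹)) ∘ₗ E =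
      lm S (el K t) ∘ₗ (E ∘ₗ φ ∘ₗ E) ∘ₗ lm S (el K t⁻¹)
    have h1 := hcommE t ht
    have h2 := hcommE t⁻¹ (inv_mem ht)
    calc E ∘ₗ (lm S (el K t) ∘ₗ φ ∘ₗ lm S (el K t⁻¹)) ∘ₗ E
        = (E ∘ₗ lm S (el K t)) ∘ₗ φ ∘ₗ (lm S (el K t⁻¹) ∘ₗ E) := rfl
      _ = (lm S (el K t) ∘ₗ E) ∘ₗ φ ∘ₗ (E ∘ₗ lm S (el K t⁻¹)) := by rw [h1, ← h2]
      _ = _ := rfl
  have hN : E ∘ₗ csum D FN ∘ₗ E = csum D FT := by
    let Φ : (S →ₗ[K] S) →+ (S →ₗ[K] S) :=
      { toFun := fun φ => E ∘ₗ φ ∘ₗ E
        map_zero' := by simp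
        map_add' := fun φ ψ => by rw [LinearMap.add_comp, LinearMap.comp_add] }
    have h1 : E ∘ₗ csum D FN ∘ₗ E = Φ (csum D FN) := rfl
    rw [h1, map_csum]
    refine csum_congr fun g => ?_
    show E ∘ₗ (if g ∈ N then F g else 0) ∘ₗ E = if g ∈ T then F g else 0
    by_cases hgT : g ∈ T
    · rw [if_pos hgT, if_pos (h.hTN hgT)]
      show E ∘ₗ cjO K S g β ∘ₗ E = cjO K S g β
      rw [hEcj g hgT, hβE2, hβE1]
    · rw [if_neg hgT]
      by_cases hgN : g ∈ N
      · rw [if_pos hgN]
        have h2 : E ∘ₗ lm S (el K g) ∘ₗ E = 0 := by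
          rw [hE, ← lm_mul, ← lm_mul, ← mul_assoc, h.off g hgN hgT]
          refine LinearMap.ext fun s => ?_
          simp
        calc E ∘ₗ F g ∘ₗ E = E ∘ₗ (lm S (el K g) ∘ₗ (E ∘ₗ β) ∘ₗ lm S (el K g⁻¹)) ∘ₗ E := by
              rw [hβE1]; rfl
          _ = (E ∘ₗ lm S (el K g) ∘ₗ E) ∘ₗ (β ∘ₗ lm S (el K g⁻¹) ∘ₗ E) := rfl
          _ = 0 := by rw [h2, LinearMap.zero_comp]
      · rw [if_neg hgN]
        simp
  have hT : ∀ s, csum D FT s =
      csum C (fun g => if g ∈ T then el K g • α (el K g⁻¹ • s) else 0) := by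
    intro s
    have hFTD : ∀ g, ∀ d ∈ D, FT (g * d) = FT g := by
      intro g d hd
      show (if g * d ∈ T then F (g * d) else 0) = if g ∈ T then F g else 0
      rw [hFD g d hd, T.mul_mem_cancel_right (hDT hd)]
    rw [← csum_trans h.hDC hFTD]
    let ev : (S →ₗ[K] S) →+ S :=
      { toFun := fun φ => φ s, map_zero' := rfl, map_add' := fun _ _ => rfl }
    have h1 : (csum C (fun g => csum (D.subgroupOf C) (fun c : C => FT (g * c)))) s =
        ev (csum C (fun g => csum (D.subgroupOf C) (fun c : C => FT (g * c)))) := rfl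
    rw [h1, map_csum]
    refine csum_congr fun g => ?_
    by_cases hg : g ∈ T
    · rw [if_pos hg]
      have h2 : csum (D.subgroupOf C) (fun c : C => FT (g * c)) = cjO K S g α := by
        have h3 : ∀ c : C, FT (g * c) = cjO K S g (lm S (el K (c : G) * emb C c₀ * el K (c : G)⁻¹) ∘ₗ α) := by
          intro c
          have hgc : g * (c : G) ∈ T := T.mul_mem hg (h.hCT c.2)
          show (if g * (c : G) ∈ T then F (g * c) else 0) = _
          rw [if_pos hgc]
          show cjO K S (g * c) β = _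
          rw [cjO_mul]
          congr 1
          refine LinearMap.ext fun s => ?_
          rw [cjO_apply, hβs, hα _ (inv_mem c.2), LinearMap.comp_apply, lm_apply, mul_smul,
            mul_smul]
        rw [csum_congr h3]
        let Ψ : MonoidAlgebra K G →+ (S →ₗ[K] S) :=
          { toFun := fun a => cjO K S g (lm S a ∘ₗ α)
            map_zero' := by
              have : (lm S (0 : MonoidAlgebra K G) ∘ₗ α) = 0 := by
                refine LinearMap.ext fun s => ?_
                simp
              rw [this, map_zero]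
            map_add' := fun a b => by
              have : (lm S (a + b) ∘ₗ α) = lm S a ∘ₗ α + lm S b ∘ₗ α := by
                refine LinearMap.ext fun s => ?_
                simp [add_smul]
              rw [this, map_add] }
        have h4 := map_csum Ψ (D.subgroupOf C)
          (fun c : C => el K (c : G) * emb C c₀ * el K (c : G)⁻¹)
        rw [h.tr] at h4
        rw [show csum (D.subgroupOf C) (fun c : C => cjO K S g
          (lm S (el K (c : G) * emb C c₀ * el K (c : G)⁻¹) ∘ₗ α)) = _ from h4.symm]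
        show cjO K S g (E ∘ₗ α) = _
        rw [hαE1]
      rw [h2]
      rfl
    · rw [if_neg hg]
      have h2 : csum (D.subgroupOf C) (fun c : C => FT (g * c)) = 0 := by
        have h3 : ∀ c : C, FT (g * c) = 0 := by
          intro c
          show (if g * (c : G) ∈ T then F (g * c) else 0) = _
          rw [if_neg]
          intro hc
          exact hg ((T.mul_mem_cancel_right (h.hCT c.2)).1 hc)
        rw [csum_congr h3]
        have := Fintype.ofFinite (C ⧸ D.subgroupOf C)
        rw [csum_def, Finset.sum_const_zero]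
      rw [h2]
      rfl
  refine ⟨κ, E ∘ₗ m ∘ₗ E, fun s => ?_⟩
  have h1 : κ • (emb C e • s) = (E ∘ₗ Z ∘ₗ E) s := by
    show κ • (emb C e • s) = emb C e • Z (emb C e • s)
    rw [hκ, smul_comm', ← mul_smul, h.ee]
  have h2 : E ∘ₗ Z ∘ₗ E = csum D FT + ∑ d : D, cjO K S (d : G) (E ∘ₗ m ∘ₗ E) := by
    rw [hsum, LinearMap.add_comp, LinearMap.comp_add, hN, hm]
    congr 1
    refine LinearMap.ext fun s => ?_
    simp only [LinearMap.comp_apply, LinearMap.sum_apply, map_sum]
    refine Finset.sum_congr rfl fun d _ => ?_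
    exact LinearMap.congr_fun (hEcj d (hDT d.2) m) s
  rw [h1, h2, LinearMap.add_apply, hT, LinearMap.sum_apply]
  rfl

end Cfsg.Agent.H653.ScalarTrace
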