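import Mathlib
import Cfsg.Agent.H653.Endo

/-!
# Non-projective homomorphisms from a module of a local subgroup to simple modules

`σ : G → End V` restricts to a representation of `T` (`RepOn`).  A `T`-homomorphism `θ : V → S` into
a `K[G]`-module is a trace from `H ≤ T` (`IsTr`) if `θ v = ∑ h ∈ H, h β(h⁻¹ v)` for some linear `β`.

* `false_of_two`: a simple module does not have non-projective homomorphisms from both `σ` and
  `μ σ`, `μ` a nontrivial linear character of `T / C`;
* `isTr_of_isTr`: from `D` to `T`;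
* `exists_simple`: a module with a non-projective homomorphism has a simple subquotient with one.
-/

set_option autoImplicit false

namespace Cfsg.Agent.H653.Nonproj

open Cfsg.Agent.Blocks.CyclicLower Cfsg.Agent.H653.Coset Cfsg.Agent.H653.ScalarTrace
open Cfsg.Agent.H653.Endo
open Cfsg.Agent.H644 (emb mkA coeff_mkA)

variable {K : Type*} [Field K] {G : Type*} [Group G] [Finite G]

/-- `σ` restricts to a representation of `T`. -/
structure RepOn {K : Type*} [Field K] {G : Type*} [Group G] (T : Subgroup G) {V : Type*}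
    [AddCommGroup V] [Module K V] (σ : G → V →ₗ[K] V) : Prop where
  one : σ 1 = 1
  mul : ∀ s ∈ T, ∀ t ∈ T, ∀ v, σ (s * t) v = σ s (σ t v)

omit [Finite G] in
theorem RepOn.inv_apply {T : Subgroup G} {V : Type*} [AddCommGroup V] [Module K V]
    {σ : G → V →ₗ[K] V} (h : RepOn T σ) {t : G} (ht : t ∈ T) (v : V) : σ t (σ t⁻¹ v) = v := by
  rw [← h.mul _ ht _ (inv_mem ht), mul_inv_cancel, h.one, Module.End.one_apply]

/-- `θ` is a homomorphism for the elements of `T`. -/
def IsHomOn {K : Type*} [Field K] {G : Type*} [Group G] (T : Subgroup G) {V : Type*}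
    [AddCommGroup V] [Module K V] {S : Type*} [AddCommGroup S] [Module K S]
    [Module (MonoidAlgebra K G) S] (σ : G → V →ₗ[K] V) (θ : V →ₗ[K] S) : Prop :=
  ∀ t ∈ T, ∀ v, θ (σ t v) = el K t • θ v

/-- `θ` is a trace from the trivial subgroup to `H`. -/
def IsTr {K : Type*} [Field K] {G : Type*} [Group G] [Finite G] (H : Subgroup G) {V : Type*}
    [AddCommGroup V] [Module K V] {S : Type*} [AddCommGroup S] [Module K S]
    [Module (MonoidAlgebra K G) S] (σ : G → V →ₗ[K] V) (θ : V →ₗ[K] S) : Prop :=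
  letI := Fintype.ofFinite H
  ∃ β : V →ₗ[K] S, ∀ v, θ v = ∑ h : H, el K (h : G) • β (σ (h : G)⁻¹ v)

variable {V : Type*} [AddCommGroup V] [Module K V]

theorem isTr_iff (H : Subgroup G) [inst : Fintype H] {S : Type*} [AddCommGroup S] [Module K S]
    [Module (MonoidAlgebra K G) S] (σ : G → V →ₗ[K] V) (θ : V →ₗ[K] S) :
    IsTr H σ θ ↔ ∃ β : V →ₗ[K] S, ∀ v, θ v = ∑ h : H, el K (h : G) • β (σ (h : G)⁻¹ v) := by
  have : inst = Fintype.ofFinite H := Subsingleton.elim _ _
  subst this
  rfl

/-- The sum over the group as a sum over cosets. -/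
theorem sum_eq_csum {M : Type*} [AddCommMonoid M] [Fintype G] (H : Subgroup G) [Fintype H]
    (f : G → M) : ∑ g : G, f g = csum H (fun g => ∑ h : H, f (g * h)) := by
  classical
  have := Fintype.ofFinite (G ⧸ H)
  rw [csum_def]
  rw [← Fintype.sum_prod_type' (f := fun (q : G ⧸ H) (h : H) => f (q.out * (h : G)))]
  let e : (G ⧸ H) × H ≃ G :=
    { toFun := fun x => x.1.out * (x.2 : G)
      invFun := fun g => (QuotientGroup.mk g, ⟨(QuotientGroup.mk g : G ⧸ H).out⁻¹ * g, by
        obtain ⟨h, hh, e⟩ := out_eq (H := H) g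
        rw [e, mul_inv_rev, mul_assoc, inv_mul_cancel, mul_one]
        exact H.inv_mem hh⟩)
      left_inv := fun x => by
        have h1 : (QuotientGroup.mk (x.1.out * (x.2 : G)) : G ⧸ H) = x.1 := by
          conv_rhs => rw [← QuotientGroup.out_eq' x.1]
          rw [QuotientGroup.eq]
          rw [mul_inv_rev, mul_assoc, inv_mul_cancel, mul_one]
          exact H.inv_mem x.2.2
        refine Prod.ext h1 (Subtype.ext ?_)
        show (QuotientGroup.mk (x.1.out * (x.2 : G)) : G ⧸ H).out⁻¹ * (x.1.out * (x.2 : G)) = x.2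
        rw [h1, inv_mul_cancel_left]
      right_inv := fun g => by
        show (QuotientGroup.mk g : G ⧸ H).out * ((QuotientGroup.mk g : G ⧸ H).out⁻¹ * g) = g
        rw [mul_inv_cancel_left] }
  exact (Equiv.sum_comp e f).symm

section Two

variable {S : Type*} [AddCommGroup S] [Module K S] [Module (MonoidAlgebra K G) S]
  [IsScalarTower K (MonoidAlgebra K G) S]

variable {D C T N : Subgroup G} {e c₀ x : MonoidAlgebra K C} {m : ℕ}

/-- Two twists of a representation cannot both have non-projective homomorphisms to a simple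
module. -/
theorem false_of_two [IsAlgClosed K] [FiniteDimensional K S] [FiniteDimensional K V]
    [hS : IsSimpleModule (MonoidAlgebra K G) S] (h : LD D C T N e c₀)
    {τ : Representation K C V} (hirr : τ.IsIrreducible) (hx : ∀ a, x * a = a * x)
    (he : ∀ a, e * a = a * e) (hee : e * e = e) (hτe : τ.asAlgebraHom e = 1)
    (h1 : x ^ m * e = 0)
    (h2 : ∀ k ≤ m, ∀ a, a * e = a → x ^ k * a = 0 → ∃ b, a = x ^ (m - k) * b * e)
    (h3 : ∀ a, a * e = a → τ.asAlgebraHom a = 0 → ∃ b, a = x * b * e)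
    (hr : (C.relIndex T : K) ≠ 0)
    {σ : G → V →ₗ[K] V} (hσ : RepOn T σ) (hστ : ∀ c : C, σ c = τ c)
    {μ : G → K} (hμ : ∀ s ∈ T, ∀ t ∈ T, μ (s * t) = μ s * μ t) (hμC : ∀ c ∈ C, μ c = 1)
    (hμ1 : ∃ t ∈ T, μ t ≠ 1)
    {θ θ' : V →ₗ[K] S} (hθ : IsHomOn T σ θ) (hθ' : IsHomOn T (fun g => μ g • σ g) θ')
    (hnp : ¬ IsTr D σ θ) (hnp' : ¬ IsTr D (fun g => μ g • σ g) θ') : False := by
  classical
  have : Fintype D := Fintype.ofFinite D
  have hDT : D ≤ T := h.hDC.trans h.hCT
  have hθ0 : θ ≠ 0 := by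
    rintro rfl
    exact hnp ((isTr_iff D σ _).2 ⟨0, fun v => by simp⟩)
  have hC : ∀ (c : C) v, θ (τ c v) = el K (c : G) • θ v := fun c v => by
    rw [← hστ]
    exact hθ c (h.hCT c.2) v
  have hC' : ∀ (c : C) v, θ' (τ c v) = el K (c : G) • θ' v := fun c v => by
    have h4 : θ' ((μ (c : G) • σ (c : G)) v) = el K (c : G) • θ' v := hθ' c (h.hCT c.2) v
    rw [hμC c c.2, one_smul, hστ] at h4
    exact h4
  obtain ⟨α, hα, hα1, hα2, ⟨κ₀, hκ₀, hαθ⟩, hαθ'⟩ :=
    exists_endo hirr hx he hee hτe h1 h2 h3 hC hθ0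
  obtain ⟨κ₁, hκ₁⟩ := hαθ' θ' hC'
  obtain ⟨κ, γ, hκγ⟩ := exists_scalar h α hα hα1 hα2
  have heθ : ∀ v, emb C e • θ v = θ v := fun v => by
    rw [← hom_asAlgebraHom hC, hτe, Module.End.one_apply]
  have heθ' : ∀ v, emb C e • θ' v = θ' v := fun v => by
    rw [← hom_asAlgebraHom hC', hτe, Module.End.one_apply]
  -- evaluation at `θ v`
  have hA : ∀ v, κ • θ v = ((C.relIndex T : K) * κ₀) • θ v +
      ∑ d : D, el K (d : G) • (γ ∘ₗ θ) (σ (d : G)⁻¹ v) := by
    intro v
    have h4 := hκγ (θ v)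
    rw [heθ] at h4
    rw [h4]
    congr 1
    · rw [csum_const_on h.hCT _ (κ₀ • θ v)]
      · rw [← Nat.cast_smul_eq_nsmul K, smul_smul]
      · intro g hg
        rw [if_pos hg, ← hθ _ (inv_mem hg), hαθ, smul_comm', ← hθ _ hg, hσ.inv_apply hg]
      · intro g hg
        rw [if_neg hg]
    · refine Finset.sum_congr rfl fun d _ => ?_
      rw [LinearMap.comp_apply, hθ _ (hDT (inv_mem d.2))]
  have hκ : κ = (C.relIndex T : K) * κ₀ := by
    by_contra hne
    apply hnp
    rw [isTr_iff]
    have hne' : κ - (C.relIndex T : K) * κ₀ ≠ 0 := sub_ne_zero.2 hne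
    refine ⟨(κ - (C.relIndex T : K) * κ₀)⁻¹ • (γ ∘ₗ θ), fun v => ?_⟩
    have h4 := hA v
    rw [add_comm, ← sub_eq_iff_eq_add, ← sub_smul] at h4
    simp only [LinearMap.smul_apply, smul_comm', ← Finset.smul_sum]
    rw [← h4, smul_smul, inv_mul_cancel₀ hne', one_smul]
  have hκne : κ ≠ 0 := by
    rw [hκ]
    exact mul_ne_zero hr hκ₀
  -- evaluation at `θ' v`
  obtain ⟨t₀, ht₀, hμt₀⟩ := hμ1
  have hμone : μ 1 = 1 := hμC 1 C.one_mem
  have hμinv : ∀ t ∈ T, μ t * μ t⁻¹ = 1 := fun t ht => by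
    rw [← hμ t ht _ (inv_mem ht), mul_inv_cancel, hμone]
  apply hnp'
  rw [isTr_iff]
  refine ⟨κ⁻¹ • (γ ∘ₗ θ'), fun v => ?_⟩
  have h4 := hκγ (θ' v)
  rw [heθ'] at h4
  have h5 : csum C (fun g => if g ∈ T then el K g • α (el K g⁻¹ • θ' v) else 0) = 0 := by
    let F : G → S := fun g => if g ∈ T then μ g⁻¹ • (κ₁ • θ v) else 0
    have h6 : ∀ g, (if g ∈ T then el K g • α (el K g⁻¹ • θ' v) else 0) = F g := by
      intro g
      show _ = if g ∈ T then μ g⁻¹ • (κ₁ • θ v) else 0
      by_cases hg : g ∈ T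
      · rw [if_pos hg, if_pos hg, ← hθ' _ (inv_mem hg), LinearMap.smul_apply, map_smul, map_smul,
          hκ₁, smul_comm', smul_comm', ← hθ _ hg, hσ.inv_apply hg]
      · rw [if_neg hg, if_neg hg]
    rw [csum_congr h6]
    have hF : ∀ g, ∀ c ∈ C, F (g * c) = F g := by
      intro g c hc
      show (if g * c ∈ T then μ (g * c)⁻¹ • (κ₁ • θ v) else 0) =
        if g ∈ T then μ g⁻¹ • (κ₁ • θ v) else 0
      rw [T.mul_mem_cancel_right (h.hCT hc)]
      by_cases hg : g ∈ T
      · rw [if_pos hg, if_pos hg, mul_inv_rev, hμ _ (h.hCT (inv_mem hc)) _ (inv_mem hg),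
          hμC _ (inv_mem hc), one_mul]
      · rw [if_neg hg, if_neg hg]
    have h7 : csum C F = μ t₀⁻¹ • csum C F := by
      have h8 := csum_mul_left C hF t₀
      have h9 : ∀ g, F (t₀ * g) = (LinearMap.lsmul K S (μ t₀⁻¹)) (F g) := by
        intro g
        show (if t₀ * g ∈ T then μ (t₀ * g)⁻¹ • (κ₁ • θ v) else 0) =
          μ t₀⁻¹ • (if g ∈ T then μ g⁻¹ • (κ₁ • θ v) else 0)
        rw [T.mul_mem_cancel_left ht₀]
        by_cases hg : g ∈ T
        · rw [if_pos hg, if_pos hg, mul_inv_rev, hμ _ (inv_mem hg) _ (inv_mem ht₀), smul_smul,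
            smul_smul, smul_smul]
          congr 1
          ring
        · rw [if_neg hg, if_neg hg, smul_zero]
      rw [csum_congr h9, ← map_csum] at h8
      exact h8.symm
    by_contra hne
    apply hμt₀
    have h10 : (1 - μ t₀⁻¹) • csum C F = 0 := by
      rw [sub_smul, one_smul, sub_eq_zero]
      exact h7
    have h11 : μ t₀⁻¹ = 1 := by
      rcases smul_eq_zero.1 h10 with h12 | h12
      · exact (sub_eq_zero.1 h12).symm
      · exact absurd h12 hne
    have h12 := hμinv t₀ ht₀
    rwa [h11, mul_one] at h12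
  rw [h5, zero_add] at h4
  simp only [LinearMap.smul_apply, smul_comm', ← Finset.smul_sum, LinearMap.comp_apply]
  have h6 : ∑ d : D, el K (d : G) • γ (θ' (μ (d : G)⁻¹ • σ (d : G)⁻¹ v)) = κ • θ' v := by
    rw [h4]
    refine Finset.sum_congr rfl fun d _ => ?_
    have h7 := hθ' _ (hDT (inv_mem d.2)) v
    rw [← h7]
    rfl
  rw [h6, smul_smul, inv_mul_cancel₀ hκne, one_smul]

/-- A homomorphism which is a trace from `1` to `D` is one from `1` to `T`. -/
theorem isTr_of_isTr (h : LD D C T N e c₀) (hr : (C.relIndex T : K) ≠ 0)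
    {σ : G → V →ₗ[K] V} (hσ : RepOn T σ) {θ : V →ₗ[K] S} (hθ : IsHomOn T σ θ)
    (heθ : ∀ v, emb C e • θ v = θ v) (hTr : IsTr D σ θ) : IsTr T σ θ := by
  classical
  have := Fintype.ofFinite D
  have := Fintype.ofFinite T
  have := Fintype.ofFinite G
  have hDT : D ≤ T := h.hDC.trans h.hCT
  rw [isTr_iff] at hTr ⊢
  obtain ⟨β, hβ⟩ := hTr
  refine ⟨(C.relIndex T : K)⁻¹ • (lm S (emb C c₀) ∘ₗ β), fun v => ?_⟩
  have key : ∑ t : T, el K (t : G) • (lm S (emb C c₀) ∘ₗ β) (σ (t : G)⁻¹ v) =
      (C.relIndex T : K) • θ v := by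
    let f : G → S := fun g => if g ∈ T then el K g • (lm S (emb C c₀) ∘ₗ β) (σ g⁻¹ v) else 0
    have h4 : ∑ t : T, el K (t : G) • (lm S (emb C c₀) ∘ₗ β) (σ (t : G)⁻¹ v) = ∑ g : G, f g := by
      have h4a : ∑ g : G, f g = ∑ g ∈ Finset.univ.filter (fun g : G => g ∈ T),
          el K g • (lm S (emb C c₀) ∘ₗ β) (σ g⁻¹ v) := by
        rw [Finset.sum_filter]
      rw [h4a]
      refine (Finset.sum_subtype _ (fun g => ?_) (fun g => el K g •
        (lm S (emb C c₀) ∘ₗ β) (σ g⁻¹ v))).symm
      simp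
    rw [h4, sum_eq_csum D f]
    -- the inner sums
    let F : G → S := fun g => if g ∈ T then (el K g * emb C c₀ * el K g⁻¹) • θ v else 0
    have h5 : ∀ g, ∑ d : D, f (g * d) = F g := by
      intro g
      show ∑ d : D, (if g * (d : G) ∈ T then el K (g * d) • (lm S (emb C c₀) ∘ₗ β)
        (σ (g * d)⁻¹ v) else 0) = if g ∈ T then (el K g * emb C c₀ * el K g⁻¹) • θ v else 0
      by_cases hg : g ∈ T
      · rw [if_pos hg, mul_smul, mul_smul, ← hθ _ (inv_mem hg), hβ, Finset.smul_sum,
          Finset.smul_sum]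
        refine Finset.sum_congr rfl fun d _ => ?_
        rw [if_pos (T.mul_mem hg (hDT d.2)), LinearMap.comp_apply, lm_apply, mul_inv_rev,
          hσ.mul _ (hDT (inv_mem d.2)) _ (inv_mem hg), ← el_mul, mul_smul,
          ← mul_smul (el K (d : G)) (emb C c₀), h.cD _ d.2, mul_smul]
      · rw [if_neg hg]
        refine Finset.sum_eq_zero fun d _ => ?_
        rw [if_neg]
        intro hc
        exact hg ((T.mul_mem_cancel_right (hDT d.2)).1 hc)
    rw [csum_congr h5]
    have hFD : ∀ g, ∀ d ∈ D, F (g * d) = F g := by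
      intro g d hd
      show (if g * d ∈ T then (el K (g * d) * emb C c₀ * el K (g * d)⁻¹) • θ v else 0) =
        if g ∈ T then (el K g * emb C c₀ * el K g⁻¹) • θ v else 0
      rw [T.mul_mem_cancel_right (hDT hd)]
      congr 2
      rw [mul_inv_rev, ← el_mul, ← el_mul, mul_assoc (el K g), h.cD d hd, mul_assoc, mul_assoc,
        mul_assoc, ← mul_assoc (el K d), el_mul, mul_inv_cancel, el_one, one_mul]
    rw [← csum_trans h.hDC hFD]
    rw [csum_const_on h.hCT _ (θ v)]
    · rw [Nat.cast_smul_eq_nsmul]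
    · intro g hg
      have h6 : ∀ c : C, F (g * c) =
          (el K g * (el K (c : G) * emb C c₀ * el K (c : G)⁻¹) * el K g⁻¹) • θ v := by
        intro c
        show (if g * (c : G) ∈ T then (el K (g * c) * emb C c₀ * el K (g * c)⁻¹) • θ v else 0) = _
        rw [if_pos (T.mul_mem hg (h.hCT c.2)), mul_inv_rev, ← el_mul, ← el_mul]
        simp only [mul_assoc]
      rw [csum_congr h6]
      let Ψ : MonoidAlgebra K G →+ S :=
        { toFun := fun a => (el K g * a * el K g⁻¹) • θ v
          map_zero' := by simp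
          map_add' := fun a b => by rw [mul_add, add_mul, add_smul] }
      have h7 := map_csum Ψ (D.subgroupOf C)
        (fun c : C => el K (c : G) * emb C c₀ * el K (c : G)⁻¹)
      rw [h.tr] at h7
      rw [show csum (D.subgroupOf C) (fun c : C =>
        (el K g * (el K (c : G) * emb C c₀ * el K (c : G)⁻¹) * el K g⁻¹) • θ v) = _ from h7.symm]
      show (el K g * emb C e * el K g⁻¹) • θ v = θ v
      rw [h.comm g hg, mul_assoc, el_mul, mul_inv_cancel, el_one, mul_one, heθ]
    · intro g hg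
      have h6 : ∀ c : C, F (g * c) = 0 := by
        intro c
        show (if g * (c : G) ∈ T then (el K (g * c) * emb C c₀ * el K (g * c)⁻¹) • θ v else 0) = 0
        rw [if_neg]
        intro hc
        exact hg ((T.mul_mem_cancel_right (h.hCT c.2)).1 hc)
      rw [csum_congr h6]
      have := Fintype.ofFinite (C ⧸ D.subgroupOf C)
      rw [csum_def, Finset.sum_const_zero]
  simp only [LinearMap.smul_apply, smul_comm', ← Finset.smul_sum]
  rw [key, smul_smul, inv_mul_cancel₀ hr, one_smul]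

end Two

section Simple

universe w

variable {T : Subgroup G}

/-- **A module with a non-projective homomorphism has a simple subquotient with one.** -/
theorem exists_simple {σ : G → V →ₗ[K] V} (hσ : RepOn T σ) (z : MonoidAlgebra K G) (n : ℕ) :
    ∀ (W : Type w) [AddCommGroup W] [Module K W] [Module (MonoidAlgebra K G) W]
      [IsScalarTower K (MonoidAlgebra K G) W] [FiniteDimensional K W],
      Module.finrank K W = n → (∀ w : W, z • w = w) → ∀ θ : V →ₗ[K] W, IsHomOn T σ θ →
      ¬ IsTr T σ θ →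
      ∃ L : Submodule (MonoidAlgebra K G) (MonoidAlgebra K G),
        IsSimpleModule (MonoidAlgebra K G) (MonoidAlgebra K G ⧸ L) ∧
        (∀ w : MonoidAlgebra K G ⧸ L, z • w = w) ∧
        ∃ θ' : V →ₗ[K] MonoidAlgebra K G ⧸ L, IsHomOn T σ θ' ∧ ¬ IsTr T σ θ' := by
  classical
  have := Fintype.ofFinite T
  induction n using Nat.strong_induction_on with
  | _ n ih =>
  intro W _ _ _ _ _ hn hz θ hθ hnp
  have hθ0 : θ ≠ 0 := by
    rintro rfl
    exact hnp ((isTr_iff T σ _).2 ⟨0, fun v => by simp⟩)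
  obtain ⟨v₀, hv₀⟩ : ∃ v, θ v ≠ 0 := by
    by_contra hcon
    push Not at hcon
    exact hθ0 (LinearMap.ext hcon)
  by_cases hs : IsSimpleModule (MonoidAlgebra K G) W
  · -- simple: transport
    let ε := (LinearMap.toSpanSingleton (MonoidAlgebra K G) W
      (θ v₀)).quotKerEquivOfSurjective (IsSimpleModule.toSpanSingleton_surjective _ hv₀)
    have hεK : ∀ (c : K) w, ε.symm (c • w) = c • ε.symm w := by
      intro c w
      rw [← smul_one_smul (MonoidAlgebra K G) c w, map_smul, smul_one_smul]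
    let εK : W →ₗ[K] _ :=
      { toFun := fun w => ε.symm w
        map_add' := fun a b => map_add _ _ _
        map_smul' := hεK }
    refine ⟨LinearMap.ker (LinearMap.toSpanSingleton (MonoidAlgebra K G) W (θ v₀)),
      IsSimpleModule.congr ε, ?_, εK ∘ₗ θ, ?_, ?_⟩
    · intro w
      apply ε.injective
      rw [map_smul, hz]
    · intro t ht v
      show ε.symm (θ (σ t v)) = _
      rw [hθ t ht, map_smul]
      rfl
    · intro hcon
      apply hnp
      rw [isTr_iff] at hcon ⊢
      obtain ⟨β, hβ⟩ := hcon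
      have hεK' : ∀ (c : K) w, ε (c • w) = c • ε w := by
        intro c w
        rw [← smul_one_smul (MonoidAlgebra K G) c w, map_smul, smul_one_smul]
      let εK' : _ →ₗ[K] W :=
        { toFun := fun w => ε w
          map_add' := fun a b => map_add _ _ _
          map_smul' := hεK' }
      refine ⟨εK' ∘ₗ β, fun v => ?_⟩
      have h1 : ε (ε.symm (θ v)) = ε (∑ h : T, el K (h : G) • β (σ (h : G)⁻¹ v)) :=
        congrArg ε (hβ v)
      rw [LinearEquiv.apply_symm_apply, map_sum] at h1
      rw [h1]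
      refine Finset.sum_congr rfl fun t _ => ?_
      rw [map_smul]
      rfl
  · have hnt : Nontrivial W := ⟨θ v₀, 0, hv₀⟩
    have hex : ∃ L : Submodule (MonoidAlgebra K G) W, L ≠ ⊥ ∧ L ≠ ⊤ := by
      by_contra hcon
      push Not at hcon
      apply hs
      rw [isSimpleModule_iff]
      exact { eq_bot_or_eq_top := fun L => by
                by_cases hL : L = ⊥
                · exact Or.inl hL
                · exact Or.inr (hcon L hL) }
    obtain ⟨L, hL0, hL1⟩ := hex
    have : FiniteDimensional K L :=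
      inferInstanceAs (FiniteDimensional K (L.restrictScalars K))
    have hfin : Module.finrank K L + Module.finrank K (W ⧸ L) = Module.finrank K W := by
      have := Submodule.finrank_quotient_add_finrank (L.restrictScalars K)
      rw [add_comm]
      exact this
    have hLpos : 0 < Module.finrank K L := by
      have : Nontrivial L := Submodule.nontrivial_iff_ne_bot.2 hL0
      exact Module.finrank_pos
    have hQpos : 0 < Module.finrank K (W ⧸ L) := by
      have : Nontrivial (W ⧸ L) := Submodule.Quotient.nontrivial_iff.2 hL1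
      exact Module.finrank_pos
    let q : W →ₗ[K] W ⧸ L := L.mkQ.restrictScalars K
    have hq : ∀ w, q w = L.mkQ w := fun _ => rfl
    by_cases hqn : IsTr T σ (q ∘ₗ θ)
    · rw [isTr_iff] at hqn
      obtain ⟨β, hβ⟩ := hqn
      -- lift `β`
      obtain ⟨s, hs'⟩ := q.exists_rightInverse_of_surjective
        (LinearMap.range_eq_top.2 L.mkQ_surjective)
      have hsq : ∀ y, q (s y) = y := fun y => LinearMap.congr_fun hs' y
      let β' : V →ₗ[K] W := s ∘ₗ β
      let θ₁ : V →ₗ[K] W := θ - ∑ t : T, lm W (el K (t : G)) ∘ₗ β' ∘ₗ σ (t : G)⁻¹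
      have hθ₁ : ∀ v, θ₁ v = θ v - ∑ t : T, el K (t : G) • β' (σ (t : G)⁻¹ v) := by
        intro v
        show (θ - ∑ t : T, lm W (el K (t : G)) ∘ₗ β' ∘ₗ σ (t : G)⁻¹) v = _
        rw [LinearMap.sub_apply, LinearMap.sum_apply]
        rfl
      have hmem : ∀ v, θ₁ v ∈ L.restrictScalars K := by
        intro v
        show θ₁ v ∈ L
        rw [← Submodule.ker_mkQ L, LinearMap.mem_ker, hθ₁, map_sub, map_sum, sub_eq_zero]
        have h1 := hβ v
        rw [LinearMap.comp_apply, hq] at h1
        rw [h1]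
        refine Finset.sum_congr rfl fun t _ => ?_
        rw [map_smul]
        congr 1
        exact (hsq _).symm
      let θ₂ : V →ₗ[K] L := θ₁.codRestrict (L.restrictScalars K) hmem
      have hθ₂ : ∀ v, (θ₂ v : W) = θ₁ v := fun v => rfl
      have hhom₁ : IsHomOn T σ θ₁ := by
        intro t ht v
        rw [hθ₁, hθ₁, smul_sub, hθ t ht, Finset.smul_sum]
        congr 1
        rw [← Equiv.sum_comp (Equiv.mulLeft (⟨t, ht⟩ : T))]
        refine Finset.sum_congr rfl fun s _ => ?_
        rw [Equiv.coe_mulLeft]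
        push_cast
        rw [← el_mul, mul_smul, ← hσ.mul _ (by
          rw [mul_inv_rev]
          exact T.mul_mem (inv_mem s.2) (inv_mem ht)) _ ht, mul_inv_rev, inv_mul_cancel_right]
      refine ih (Module.finrank K L) (by omega) L rfl (fun w => Subtype.ext (hz w)) θ₂ ?_ ?_
      · intro t ht v
        exact Subtype.ext (hhom₁ t ht v)
      · intro hcon
        apply hnp
        rw [isTr_iff] at hcon ⊢
        obtain ⟨γ, hγ⟩ := hcon
        refine ⟨β' + (L.restrictScalars K).subtype ∘ₗ γ, fun v => ?_⟩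
        have h1 : θ₁ v = ∑ t : T, el K (t : G) • ((γ (σ (t : G)⁻¹ v) : L) : W) := by
          have h2 : θ₁ v = ((∑ t : T, el K (t : G) • γ (σ (t : G)⁻¹ v) : L) : W) :=
            congrArg (fun y : L => (y : W)) (hγ v)
          rw [h2, AddSubmonoidClass.coe_finsetSum]
          rfl
        have h3 : θ v = θ₁ v + ∑ t : T, el K (t : G) • β' (σ (t : G)⁻¹ v) := by
          rw [hθ₁, sub_add_cancel]
        rw [h3, h1, ← Finset.sum_add_distrib]
        refine Finset.sum_congr rfl fun t _ => ?_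
        rw [LinearMap.add_apply, smul_add, add_comm]
        rfl
    · refine ih (Module.finrank K (W ⧸ L)) (by omega) (W ⧸ L) rfl (fun w => ?_) (q ∘ₗ θ) ?_ hqn
      · obtain ⟨w, rfl⟩ := L.mkQ_surjective w
        rw [← map_smul, hz]
      · intro t ht v
        show L.mkQ (θ (σ t v)) = el K t • L.mkQ (θ v)
        rw [hθ t ht, map_smul]

end Simple

end Cfsg.Agent.H653.Nonproj
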