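import Mathlib
import Cfsg.Agent.H653.Nonproj
import Cfsg.Agent.Blocks.CyclicSimple

/-!
# Simple modules of a block from the extensions of the simple module of a local uniserial block

`exists_start`: a non-projective homomorphism to a left ideal in the block;
`exists_family`: pairwise non-isomorphic simple modules of the block, one for each of the given
linear characters of `T / C`.
-/

set_option autoImplicit false

namespace Cfsg.Agent.H653.Family

open Cfsg.Agent.Blocks.CyclicLower Cfsg.Agent.H653.Coset Cfsg.Agent.H653.ScalarTrace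
open Cfsg.Agent.H653.Endo Cfsg.Agent.H653.Nonproj
open Cfsg.Agent.H644 (emb mkA coeff_mkA)

variable {K : Type*} [Field K] {G : Type*} [Group G] [Finite G]
variable {V : Type*} [AddCommGroup V] [Module K V]

/-- A sum over `H` of a function invariant under left multiplication by `Q ≤ H`. -/
theorem sum_eq_zero {Q H : Subgroup G} (hQH : Q ≤ H) (hQ : (Nat.card Q : K) = 0) [Fintype H]
    (f : G → K) (hf : ∀ q ∈ Q, ∀ h ∈ H, f (q * h) = f h) : ∑ h : H, f h = 0 := by
  classical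
  have := Fintype.ofFinite G
  have h1 : ∑ h : H, f h = ∑ g ∈ Finset.univ.filter (fun g : G => g ∈ H), f g :=
    (Finset.sum_subtype _ (fun g => by simp) f).symm
  rw [h1]
  refine Cfsg.Agent.Blocks.CyclicLower2.sum_eq_zero_of_free (F := K) (P := Q) _ ?_ ?_ hQ f ?_
  · intro q g hg
    have hg' : g ∈ H := by simpa using hg
    have : (q : G) * g ∈ H := H.mul_mem (hQH q.2) hg'
    simpa [Subgroup.smul_def] using this
  · intro q g _ h
    have h2 : (q : G) * g = g := h
    exact Subtype.ext (by simpa using h2)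
  · intro q g hg
    have hg' : g ∈ H := by simpa using hg
    exact hf q q.2 g hg'

section Start

variable {D C T : Subgroup G} {e : MonoidAlgebra K C} {σ : G → V →ₗ[K] V}

open scoped Classical in
/-- The homomorphism from `V` to the group algebra attached to a functional. -/
noncomputable def toAlg (T : Subgroup G) (σ : G → V →ₗ[K] V) (g₀ : V →ₗ[K] K) :
    V →ₗ[K] MonoidAlgebra K G where
  toFun v := mkA fun g : G => if g ∈ T then g₀ (σ g⁻¹ v) else 0
  map_add' v w := by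
    apply Cfsg.Agent.H644.ext_coeff
    intro g
    rw [MonoidAlgebra.coeff_add, Finsupp.add_apply, coeff_mkA, coeff_mkA, coeff_mkA]
    split_ifs
    · rw [map_add, map_add]
    · rw [add_zero]
  map_smul' r v := by
    apply Cfsg.Agent.H644.ext_coeff
    intro g
    rw [RingHom.id_apply, MonoidAlgebra.coeff_smul, Finsupp.smul_apply, coeff_mkA, coeff_mkA]
    split_ifs
    · rw [map_smul, map_smul]
    · rw [smul_zero]

open scoped Classical in
theorem coeff_toAlg (g₀ : V →ₗ[K] K) (v : V) (g : G) :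
    (toAlg T σ g₀ v).coeff g = if g ∈ T then g₀ (σ g⁻¹ v) else 0 := rfl

theorem toAlg_hom (hσ : RepOn T σ) (g₀ : V →ₗ[K] K) {t : G} (ht : t ∈ T) (v : V) :
    toAlg T σ g₀ (σ t v) = el K t * toAlg T σ g₀ v := by
  classical
  apply Cfsg.Agent.H644.ext_coeff
  intro g
  change _ = (MonoidAlgebra.single t (1 : K) * toAlg T σ g₀ v).coeff g
  rw [MonoidAlgebra.coeff_single_mul_apply, one_mul, coeff_toAlg, coeff_toAlg,
    T.mul_mem_cancel_left (inv_mem ht)]
  by_cases hg : g ∈ T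
  · rw [if_pos hg, if_pos hg, mul_inv_rev, inv_inv, hσ.mul _ (inv_mem hg) _ ht]
  · rw [if_neg hg, if_neg hg]

theorem toAlg_mul (hσ : RepOn T σ) {Q : Subgroup G} (hQT : Q ≤ T) (hσQ : ∀ q ∈ Q, σ q = 1)
    (g₀ : V →ₗ[K] K) {q : G} (hq : q ∈ Q) (v : V) :
    toAlg T σ g₀ v * el K q = toAlg T σ g₀ v := by
  classical
  apply Cfsg.Agent.H644.ext_coeff
  intro g
  change (toAlg T σ g₀ v * MonoidAlgebra.single q (1 : K)).coeff g = _
  rw [MonoidAlgebra.coeff_mul_single_apply, mul_one, coeff_toAlg, coeff_toAlg,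
    T.mul_mem_cancel_right (inv_mem (hQT hq))]
  by_cases hg : g ∈ T
  · rw [if_pos hg, if_pos hg, mul_inv_rev, inv_inv, hσ.mul _ (hQT hq) _ (inv_mem hg), hσQ q hq,
      Module.End.one_apply]
  · rw [if_neg hg, if_neg hg]

/-- **A non-projective homomorphism into a left ideal in the block.** -/
theorem exists_start (hDT : D ≤ T) (hCT : C ≤ T) (hσ : RepOn T σ) {Q : Subgroup G} (hQD : Q ≤ D)
    (hQ : (Nat.card Q : K) = 0) (hσQ : ∀ q ∈ Q, σ q = 1)
    {τ : Representation K C V} (hτe : τ.asAlgebraHom e = 1) (hστ : ∀ c : C, σ c = τ c)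
    [Nontrivial V] {z : MonoidAlgebra K G}
    (hz : ∀ a, z * a = a * z) (hzz : z * z = z) {ρ₀ : MonoidAlgebra K G} [Fintype D]
    (hze : z * emb C e = emb C e + ∑ d : D, el K (d : G) * ρ₀ * el K (d : G)⁻¹) :
    ∃ W : Submodule (MonoidAlgebra K G) (MonoidAlgebra K G), (∀ w : W, z • w = w) ∧
      ∃ θ : V →ₗ[K] W, IsHomOn T σ θ ∧ ¬ IsTr T σ θ := by
  classical
  have := Fintype.ofFinite T
  have hQT : Q ≤ T := hQD.trans hDT
  obtain ⟨v₀, hv₀⟩ := exists_ne (0 : V)
  obtain ⟨g₀, hg₀⟩ : ∃ f : Module.Dual K V, f v₀ = 1 := Module.Projective.exists_dual_eq_one K hv₀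
  let A := toAlg T σ g₀
  have hA : ∀ v, A v = toAlg T σ g₀ v := fun _ => rfl
  let W : Submodule (MonoidAlgebra K G) (MonoidAlgebra K G) :=
    Submodule.span (MonoidAlgebra K G) (Set.range fun v => z * A v)
  have hWz : ∀ w ∈ W, z * w = w := by
    intro w hw
    refine Submodule.span_induction ?_ ?_ ?_ ?_ hw
    · rintro _ ⟨v, rfl⟩
      rw [← mul_assoc, hzz]
    · rw [mul_zero]
    · intro a b _ _ ha hb
      rw [mul_add, ha, hb]
    · intro a b _ hb
      rw [smul_eq_mul, ← mul_assoc, hz, mul_assoc, hb]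
  let θ : V →ₗ[K] W :=
    { toFun := fun v => ⟨z * A v, Submodule.subset_span ⟨v, rfl⟩⟩
      map_add' := fun v w => Subtype.ext (by
        show z * A (v + w) = z * A v + z * A w
        rw [map_add, mul_add])
      map_smul' := fun r v => Subtype.ext (by
        show z * A (r • v) = r • (z * A v)
        rw [map_smul, mul_smul_comm]) }
  have hθ : ∀ v, ((θ v : W) : MonoidAlgebra K G) = z * A v := fun _ => rfl
  refine ⟨W, fun w => Subtype.ext (hWz w w.2), θ, ?_, ?_⟩
  · intro t ht v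
    apply Subtype.ext
    show z * A (σ t v) = el K t * (z * A v)
    rw [hA, toAlg_hom hσ g₀ ht, ← mul_assoc, hz, mul_assoc]
  · intro hcon
    rw [isTr_iff] at hcon
    obtain ⟨β, hβ⟩ := hcon
    -- elements of the left ideal generated by the image are invariant under right translation
    have hinv : ∀ w ∈ Submodule.span (MonoidAlgebra K G) (Set.range fun v => A v), ∀ q ∈ Q,
        w * el K q = w := by
      intro w hw q hq
      refine Submodule.span_induction ?_ ?_ ?_ ?_ hw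
      · rintro _ ⟨v, rfl⟩
        exact toAlg_mul hσ hQT hσQ g₀ hq v
      · rw [zero_mul]
      · intro a b _ _ ha hb
        rw [add_mul, ha, hb]
      · intro a b _ hb
        rw [smul_eq_mul, mul_assoc, hb]
    have hWinv : ∀ w ∈ W, ∀ q ∈ Q, w * el K q = w := by
      intro w hw
      apply hinv
      refine Submodule.span_le.2 ?_ hw
      rintro _ ⟨v, rfl⟩
      exact Submodule.smul_mem _ z (Submodule.subset_span ⟨v, rfl⟩)
    -- coefficients at `1`
    have hcoeff : ∀ (w : MonoidAlgebra K G), (∀ q ∈ Q, w * el K q = w) → ∀ (g q : G), q ∈ Q →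
        (el K (q * g) * w).coeff 1 = (el K g * w).coeff 1 := by
      intro w hw g q hq
      rw [← el_mul, mul_assoc, Cfsg.Agent.Blocks.CyclicLower4.coeff_one_comm, mul_assoc, hw q hq]
    have hsum : ∀ (H : Subgroup G) [Fintype H], Q ≤ H → H ≤ T →
        ∀ (B : V →ₗ[K] MonoidAlgebra K G), (∀ v, ∀ q ∈ Q, B v * el K q = B v) → ∀ v,
        (∑ h : H, el K (h : G) * B (σ (h : G)⁻¹ v)).coeff 1 = 0 := by
      intro H _ hQH hHT B hB v
      rw [MonoidAlgebra.coeff_sum, Finsupp.finsetSum_apply]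
      refine sum_eq_zero hQH hQ (fun h => (el K h * B (σ h⁻¹ v)).coeff 1) ?_
      intro q hq h hh
      show (el K (q * h) * B (σ (q * h)⁻¹ v)).coeff 1 = (el K h * B (σ h⁻¹ v)).coeff 1
      rw [mul_inv_rev, hσ.mul _ (hHT (inv_mem hh)) _ (hQT (inv_mem hq)), hσQ _ (inv_mem hq),
        Module.End.one_apply]
      exact hcoeff _ (hB _) h q hq
    have heA : ∀ v, emb C e * A v = A v := by
      intro v
      have h1 := hom_asAlgebraHom (K := K) (G := G) (C := C) (τ := τ) (θ := A)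
        (fun c v => by rw [← hστ]; exact toAlg_hom hσ g₀ (hCT c.2) v) e v
      rw [hτe, Module.End.one_apply] at h1
      exact h1.symm
    have key : (A v₀).coeff 1 = 0 := by
      have h1 : z * A v₀ = A v₀ + ∑ d : D, el K (d : G) * (ρ₀ * A (σ (d : G)⁻¹ v₀)) := by
        conv_lhs => rw [← heA, ← mul_assoc, hze, add_mul, heA, Finset.sum_mul]
        congr 1
        refine Finset.sum_congr rfl fun d _ => ?_
        rw [hA (σ (d : G)⁻¹ v₀), toAlg_hom hσ g₀ (hDT (inv_mem d.2))]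
        simp only [mul_assoc]
        rfl
      have h2 : z * A v₀ = ∑ t : T, el K (t : G) * ((β (σ (t : G)⁻¹ v₀) : W) : MonoidAlgebra K G) := by
        rw [← hθ, hβ v₀, AddSubmonoidClass.coe_finsetSum]
        rfl
      have h3 : (z * A v₀).coeff 1 = 0 := by
        rw [h2]
        exact hsum T hQT le_rfl (W.subtype.restrictScalars K ∘ₗ β)
          (fun v q hq => hWinv _ (β v).2 q hq) v₀
      have h4 : (∑ d : D, el K (d : G) * (ρ₀ * A (σ (d : G)⁻¹ v₀))).coeff 1 = 0 := by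
        exact hsum D hQD hDT (lm (MonoidAlgebra K G) ρ₀ ∘ₗ A) (fun v q hq => by
          show ρ₀ * A v * el K q = ρ₀ * A v
          rw [mul_assoc, hA, toAlg_mul hσ hQT hσQ g₀ hq]) v₀
      rw [h1, MonoidAlgebra.coeff_add, Finsupp.add_apply, h4, add_zero] at h3
      exact h3
    rw [hA, coeff_toAlg, if_pos T.one_mem, inv_one, hσ.one, Module.End.one_apply, hg₀] at key
    exact one_ne_zero key

end Start

section Fam

variable {D C T N : Subgroup G} {e c₀ x : MonoidAlgebra K C} {m : ℕ}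

omit [Finite G] in
theorem isHomOn_congr {S : Type*} [AddCommGroup S] [Module K S] [Module (MonoidAlgebra K G) S]
    {σ σ' : G → V →ₗ[K] V} {θ : V →ₗ[K] S} (h : ∀ t ∈ T, σ t = σ' t) (hθ : IsHomOn T σ θ) :
    IsHomOn T σ' θ := fun t ht v => by rw [← h t ht]; exact hθ t ht v

theorem isTr_congr {S : Type*} [AddCommGroup S] [Module K S] [Module (MonoidAlgebra K G) S]
    {σ σ' : G → V →ₗ[K] V} {θ : V →ₗ[K] S} (h : ∀ t ∈ D, σ t = σ' t) (hθ : IsTr D σ θ) :
    IsTr D σ' θ := by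
  have := Fintype.ofFinite D
  rw [isTr_iff] at hθ ⊢
  obtain ⟨β, hβ⟩ := hθ
  exact ⟨β, fun v => by
    rw [hβ]
    exact Finset.sum_congr rfl fun d _ => by rw [h _ (inv_mem d.2)]⟩

/-- **The family of simple modules.** -/
theorem exists_family [IsAlgClosed K] [FiniteDimensional K V] (h : LD D C T N e c₀)
    {Q : Subgroup G} (hQD : Q ≤ D) (hQ : (Nat.card Q : K) = 0)
    {τ : Representation K C V} (hirr : τ.IsIrreducible) (hx : ∀ a, x * a = a * x)
    (he : ∀ a, e * a = a * e) (hee : e * e = e) (hτe : τ.asAlgebraHom e = 1)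
    (h1 : x ^ m * e = 0)
    (h2 : ∀ k ≤ m, ∀ a, a * e = a → x ^ k * a = 0 → ∃ b, a = x ^ (m - k) * b * e)
    (h3 : ∀ a, a * e = a → τ.asAlgebraHom a = 0 → ∃ b, a = x * b * e)
    (hr : (C.relIndex T : K) ≠ 0)
    {σ : G → V →ₗ[K] V} (hσ : RepOn T σ) (hστ : ∀ c : C, σ c = τ c) (hσQ : ∀ q ∈ Q, σ q = 1)
    {z : MonoidAlgebra K G} (hz : ∀ a, z * a = a * z) (hzz : z * z = z)
    {ρ₀ : MonoidAlgebra K G} [Fintype D]
    (hze : z * emb C e = emb C e + ∑ d : D, el K (d : G) * ρ₀ * el K (d : G)⁻¹)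
    {J : Type*} (μ : J → G → K) (hμ : ∀ j, ∀ s ∈ T, ∀ t ∈ T, μ j (s * t) = μ j s * μ j t)
    (hμC : ∀ j, ∀ c ∈ C, μ j c = 1) (hμ1 : ∀ j j', j ≠ j' → ∃ t ∈ T, μ j t ≠ μ j' t) :
    ∃ L : J → Submodule (MonoidAlgebra K G) (MonoidAlgebra K G),
      (∀ j, IsSimpleModule (MonoidAlgebra K G) (MonoidAlgebra K G ⧸ L j)) ∧
      (∀ j, ∀ w : MonoidAlgebra K G ⧸ L j, z • w = w) ∧
      ∀ j j', j ≠ j' → IsEmpty ((MonoidAlgebra K G ⧸ L j) ≃ₗ[MonoidAlgebra K G]
        (MonoidAlgebra K G ⧸ L j')) := by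
  classical
  have hnt := nontrivial_of_irreducible hirr
  have hDT : D ≤ T := h.hDC.trans h.hCT
  have hμ_one : ∀ j, μ j 1 = 1 := fun j => hμC j 1 C.one_mem
  have hμne : ∀ j, ∀ t ∈ T, μ j t ≠ 0 := by
    intro j t ht h0
    have h4 := hμ j t ht t⁻¹ (inv_mem ht)
    rw [mul_inv_cancel, hμ_one, h0, zero_mul] at h4
    exact one_ne_zero h4
  let σ' : J → G → V →ₗ[K] V := fun j g => μ j g • σ g
  have hσ' : ∀ j, RepOn T (σ' j) := by
    intro j
    refine ⟨?_, fun s hs t ht v => ?_⟩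
    · show μ j 1 • σ 1 = 1
      rw [hμ_one, hσ.one, one_smul]
    · show μ j (s * t) • σ (s * t) v = μ j s • σ s (μ j t • σ t v)
      rw [hμ j s hs t ht, hσ.mul s hs t ht, map_smul, smul_smul]
  have hσ'τ : ∀ j (c : C), σ' j c = τ c := by
    intro j c
    show μ j c • σ c = τ c
    rw [hμC j c c.2, one_smul, hστ]
  have hσ'Q : ∀ j, ∀ q ∈ Q, σ' j q = 1 := by
    intro j q hq
    show μ j q • σ q = 1
    rw [hμC j q (h.hDC (hQD hq)), one_smul, hσQ q hq]
  have hex : ∀ j, ∃ L : Submodule (MonoidAlgebra K G) (MonoidAlgebra K G),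
      IsSimpleModule (MonoidAlgebra K G) (MonoidAlgebra K G ⧸ L) ∧
      (∀ w : MonoidAlgebra K G ⧸ L, z • w = w) ∧
      ∃ θ' : V →ₗ[K] MonoidAlgebra K G ⧸ L, IsHomOn T (σ' j) θ' ∧ ¬ IsTr T (σ' j) θ' := by
    intro j
    obtain ⟨W, hWz, θ, hθ, hnp⟩ := exists_start (e := e) hDT h.hCT (hσ' j) hQD hQ (hσ'Q j) hτe
      (hσ'τ j) hz hzz hze
    have : FiniteDimensional K W :=
      inferInstanceAs (FiniteDimensional K (W.restrictScalars K))
    exact exists_simple (hσ' j) z _ W rfl hWz θ hθ hnp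
  choose L hLs hLz θ hθ hnp using hex
  have hhomC : ∀ j (c : C) v, θ j (τ c v) = el K (c : G) • θ j v := by
    intro j c v
    rw [← hσ'τ j c]
    exact hθ j c (h.hCT c.2) v
  have heθ : ∀ j v, emb C e • θ j v = θ j v := by
    intro j v
    rw [← hom_asAlgebraHom (hhomC j), hτe, Module.End.one_apply]
  have hnpD : ∀ j, ¬ IsTr D (σ' j) (θ j) := fun j hcon =>
    hnp j (isTr_of_isTr h hr (hσ' j) (hθ j) (heθ j) hcon)
  refine ⟨L, hLs, hLz, fun j j' hjj' => ⟨fun ε => ?_⟩⟩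
  have : FiniteDimensional K (MonoidAlgebra K G ⧸ L j) :=
    inferInstanceAs (FiniteDimensional K (MonoidAlgebra K G ⧸ (L j).restrictScalars K))
  have := hLs j
  -- transport `θ j'` to `j`
  have hεK : ∀ (c : K) w, ε.symm (c • w) = c • ε.symm w := by
    intro c w
    rw [← smul_one_smul (MonoidAlgebra K G) c w, map_smul, smul_one_smul]
  have hεK' : ∀ (c : K) w, ε (c • w) = c • ε w := by
    intro c w
    rw [← smul_one_smul (MonoidAlgebra K G) c w, map_smul, smul_one_smul]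
  let εs : (MonoidAlgebra K G ⧸ L j') →ₗ[K] (MonoidAlgebra K G ⧸ L j) :=
    { toFun := fun w => ε.symm w, map_add' := fun a b => map_add _ _ _, map_smul' := hεK }
  let εf : (MonoidAlgebra K G ⧸ L j) →ₗ[K] (MonoidAlgebra K G ⧸ L j') :=
    { toFun := fun w => ε w, map_add' := fun a b => map_add _ _ _, map_smul' := hεK' }
  let θ₁ : V →ₗ[K] (MonoidAlgebra K G ⧸ L j) := εs ∘ₗ θ j'
  have hθ₁ : IsHomOn T (σ' j') θ₁ := by
    intro t ht v
    show ε.symm (θ j' (σ' j' t v)) = el K t • ε.symm (θ j' v)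
    rw [hθ j' t ht, map_smul]
  have hnp₁ : ¬ IsTr D (σ' j') θ₁ := by
    intro hcon
    apply hnpD j'
    rw [isTr_iff] at hcon ⊢
    obtain ⟨β, hβ⟩ := hcon
    refine ⟨εf ∘ₗ β, fun v => ?_⟩
    have h4 : ε (ε.symm (θ j' v)) = ε (∑ d : D, el K (d : G) • β (σ' j' (d : G)⁻¹ v)) :=
      congrArg ε (hβ v)
    rw [LinearEquiv.apply_symm_apply, map_sum] at h4
    rw [h4]
    refine Finset.sum_congr rfl fun d _ => ?_
    rw [map_smul]
    rfl
  let ν : G → K := fun g => μ j' g * (μ j g)⁻¹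
  have hνσ : ∀ t ∈ T, σ' j' t = ν t • σ' j t := by
    intro t ht
    show μ j' t • σ t = (μ j' t * (μ j t)⁻¹) • (μ j t • σ t)
    rw [smul_smul, mul_assoc, inv_mul_cancel₀ (hμne j t ht), mul_one]
  obtain ⟨t₀, ht₀, hne⟩ := hμ1 j j' hjj'
  refine false_of_two h hirr hx he hee hτe h1 h2 h3 hr (hσ' j) (hσ'τ j) (μ := ν) ?_ ?_ ?_
    (hθ j) (θ' := θ₁) ?_ (hnpD j) ?_
  · intro s hs t ht
    show μ j' (s * t) * (μ j (s * t))⁻¹ = (μ j' s * (μ j s)⁻¹) * (μ j' t * (μ j t)⁻¹)
    rw [hμ j' s hs t ht, hμ j s hs t ht, mul_inv]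
    ring
  · intro c hc
    show μ j' c * (μ j c)⁻¹ = 1
    rw [hμC j' c hc, hμC j c hc, inv_one, mul_one]
  · refine ⟨t₀, ht₀, fun h4 => hne ?_⟩
    have h5 : μ j' t₀ * (μ j t₀)⁻¹ = 1 := h4
    exact ((mul_inv_eq_one₀ (hμne j t₀ ht₀)).1 h5).symm
  · exact isHomOn_congr hνσ hθ₁
  · intro hcon
    exact hnp₁ (isTr_congr (fun t ht => (hνσ t (hDT ht)).symm) hcon)

end Fam

end Cfsg.Agent.H653.Family
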