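import Mathlib
import Cfsg.Prelude.Def_BlockRank
import Cfsg.Agent.Blocks.BlockRank
import Cfsg.Agent.Blocks.CyclicAssembly
import Cfsg.Agent.H644.Brauer
import Cfsg.Agent.H646.RankTrace

/-!
# Irreducible representations in a block and the `p`-regular rank

`card_le_blockRank`: pairwise inequivalent irreducible representations over the residue field on
which the idempotent of the block `B` acts as the identity are at most `l(B)` in number.
-/

set_option autoImplicit false

namespace Cfsg.Agent.H653.RankBound

open Cfsg Module
open Cfsg.Agent.Blocks.Central Cfsg.Agent.Blocks.Local Cfsg.Agent.Blocks.Osima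
open Cfsg.Agent.Blocks.PPart Cfsg.Agent.Blocks.ModularTraces Cfsg.Agent.Characters.Core
open Cfsg.Agent.Blocks.BlockRank

universe u

variable {G : Type u} [Group G] [Finite G] {p : ℕ} [Fact p.Prime] {M : Ideal AlgInt}
  [hP : M.IsPrime]

/-- **Upper bound for the number of irreducible representations in a block.** -/
theorem card_le_blockRank (hM : IsPModular p M) [IsAlgClosed (ResField M)]
    {B : Set (IrrCharacter G)} (hB : IsPBlock M B)
    {ι : Type*} [Finite ι] {V : ι → Type*} [∀ i, AddCommGroup (V i)]
    [∀ i, Module (ResField M) (V i)] [∀ i, FiniteDimensional (ResField M) (V i)]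
    (ρ : ∀ i, Representation (ResField M) G (V i)) (hirr : ∀ i, (ρ i).IsIrreducible)
    (hne : ∀ i j, i ≠ j → IsEmpty (Representation.Equiv (ρ i) (ρ j)))
    (hact : ∀ i, (ρ i).asAlgebraHom (Cfsg.Agent.H644.idem M B) = 1) :
    Nat.card ι ≤ blockRank p B := by
  classical
  have := Fintype.ofFinite G
  have := Fintype.ofFinite ι
  have hchar : CharP (ResField M) p := charP_resField hM
  let tr : ι → G → ResField M := fun i g => LinearMap.trace (ResField M) (V i) (ρ i g)
  have htrc : ∀ i (g h : G), tr i (h * g * h⁻¹) = tr i g := by
    intro i g h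
    show LinearMap.trace _ _ _ = LinearMap.trace _ _ _
    rw [map_mul, LinearMap.trace_mul_comm, ← map_mul]
    congr 2
    group
  have hsec : ∀ x : ResField M, ∃ c : ℂ, MemLocalRing M c ∧ redC M c = x := by
    intro x
    obtain ⟨c, hc⟩ := red_surjective x
    exact ⟨c, c.2, by rw [redC_coe, hc]⟩
  choose s hsR hs using hsec
  let τ : ι → G → ℂ := fun i g => s (tr i g)
  have hτ : ∀ i, IsClassFunction G (τ i) := by
    intro i g h
    show s _ = s _
    rw [htrc]
  let θ : ι → G → ℂ := fun i => blockOp B (τ i)
  have haR := memLocalRing_blockCoeff hM hB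
  have hθR : ∀ i g, MemLocalRing M (θ i g) := by
    intro i g
    exact memLocalRing_sum fun h _ => memLocalRing_mul (haR h) (hsR _)
  have hθred : ∀ i g, redC M (θ i g) = tr i g := by
    intro i g
    show redC M (∑ h, blockCoeff B h * τ i (h * g)) = _
    rw [redC_sum fun h _ => memLocalRing_mul (haR h) (hsR _)]
    have h1 : ∀ h : G, redC M (blockCoeff B h * τ i (h * g)) =
        redC M (blockCoeff B h) * tr i (h * g) := by
      intro h
      rw [redC_mul (haR h) (hsR _), hs]
    rw [Finset.sum_congr rfl fun h _ => h1 h]
    have h2 : tr i g = LinearMap.trace (ResField M) (V i)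
        ((ρ i).asAlgebraHom (Cfsg.Agent.H644.idem M B) * ρ i g) := by
      rw [hact, one_mul]
    have h3 : (ρ i).asAlgebraHom (Cfsg.Agent.H644.idem M B) =
        ∑ h, redC M (blockCoeff B h) • ρ i h := by
      have h4 : Cfsg.Agent.H644.idem M B =
          ∑ h, MonoidAlgebra.single h (redC M (blockCoeff B h)) := by
        apply Cfsg.Agent.H644.ext_coeff
        intro x
        rw [MonoidAlgebra.coeff_sum, Finsupp.finsetSum_apply]
        simp only [MonoidAlgebra.coeff_single, Finsupp.single_apply]
        rw [Finset.sum_ite_eq']
        simp [Cfsg.Agent.H644.coeff_idem]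
      rw [h4, map_sum]
      refine Finset.sum_congr rfl fun h _ => ?_
      rw [Representation.asAlgebraHom_single]
    rw [h2, h3, Finset.sum_mul, map_sum]
    refine Finset.sum_congr rfl fun h _ => ?_
    rw [smul_mul_assoc, map_smul, ← map_mul, smul_eq_mul]
  have hθs : ∀ i, θ i ∈ Submodule.span ℂ ((fun χ : IrrCharacter G => (χ : G → ℂ)) '' B) :=
    fun i => blockOp_mem_span B (hτ i)
  -- the regular parts
  let f : ι → G → ℂ := fun i => pRegularPart p (θ i)
  have hf : ∀ i g, f i g = if IsPRegular p g then θ i g else 0 := fun _ _ => rfl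
  have hfs : ∀ i, f i ∈ Cfsg.Agent.H646.RankTrace.regSpan p B := by
    intro i
    have h1 : ∀ h ∈ Submodule.span ℂ ((fun χ : IrrCharacter G => (χ : G → ℂ)) '' B),
        pRegularPart p h ∈ Cfsg.Agent.H646.RankTrace.regSpan p B := by
      intro h hh
      refine Submodule.span_induction ?_ ?_ ?_ ?_ hh
      · rintro _ ⟨χ, hχ, rfl⟩
        exact Cfsg.Agent.H646.RankTrace.pRegularPart_mem_regSpan hχ
      · have : pRegularPart p (0 : G → ℂ) = 0 := by
          funext g
          show (if IsPRegular p g then (0 : G → ℂ) g else 0) = 0
          simp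
        rw [this]
        exact Submodule.zero_mem _
      · intro a b _ _ ha hb
        have : pRegularPart p (a + b) = pRegularPart p a + pRegularPart p b := by
          funext g
          show (if IsPRegular p g then (a + b) g else 0) =
            (if IsPRegular p g then a g else 0) + (if IsPRegular p g then b g else 0)
          split_ifs
          · rfl
          · rw [add_zero]
        rw [this]
        exact Submodule.add_mem _ ha hb
      · intro c a _ ha
        have : pRegularPart p (c • a) = c • pRegularPart p a := by
          funext g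
          show (if IsPRegular p g then (c • a) g else 0) =
            c • (if IsPRegular p g then a g else 0)
          split_ifs
          · rfl
          · rw [smul_zero]
        rw [this]
        exact Submodule.smul_mem _ _ ha
    exact h1 _ (hθs i)
  have hfR : ∀ i g, MemLocalRing M (f i g) := by
    intro i g
    rw [hf]
    split_ifs
    · exact hθR i g
    · exact memLocalRing_zero
  have hfred : ∀ i g, redC M (f i g) = if IsPRegular p g then tr i g else 0 := by
    intro i g
    rw [hf]
    split_ifs
    · exact hθred i g
    · exact redC_zero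
  have hli : LinearIndependent (ResField M) (fun i g => redC M (f i g)) := by
    rw [Fintype.linearIndependent_iff]
    intro c hc
    have htr := linearIndependent_trace ρ hirr hne
    rw [Fintype.linearIndependent_iff] at htr
    apply htr c
    funext g
    obtain ⟨x, y, hxyg, hcomm, ⟨k, hk⟩, hy⟩ := exists_isPPart p g
    have h1 : ∀ i, tr i g = tr i y := by
      intro i
      show LinearMap.trace _ _ _ = LinearMap.trace _ _ _
      rw [← hxyg]
      exact trace_eq_of_commute p (ρ i) hcomm (k := k) (by rw [← hk, pow_orderOf_eq_one])
    have h2 := congrFun hc y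
    rw [Finset.sum_apply] at h2
    rw [Finset.sum_apply]
    rw [show (0 : G → ResField M) g = (0 : G → ResField M) y from rfl, ← h2]
    refine Finset.sum_congr rfl fun i _ => ?_
    rw [Pi.smul_apply, Pi.smul_apply, hfred, if_pos (show IsPRegular p y from hy)]
    exact congrArg (fun z => c i • z) (h1 i)
  have hliC : LinearIndependent ℂ f := linearIndependent_of_redC (M := M) f hfR hli
  let w : ι → Cfsg.Agent.H646.RankTrace.regSpan p B := fun i => ⟨f i, hfs i⟩
  have hw : LinearIndependent ℂ w := by
    apply LinearIndependent.of_comp (Cfsg.Agent.H646.RankTrace.regSpan p B).subtype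
    exact hliC
  have h1 := hw.fintype_card_le_finrank
  rw [Nat.card_eq_fintype_card]
  exact h1

/-- Simple quotients of the group algebra, pairwise non-isomorphic, in the block `B`. -/
theorem card_le_blockRank_of_simple (hM : IsPModular p M) [IsAlgClosed (ResField M)]
    {B : Set (IrrCharacter G)} (hB : IsPBlock M B) {ι : Type*} [Finite ι]
    (L : ι → Submodule (MonoidAlgebra (ResField M) G) (MonoidAlgebra (ResField M) G))
    (hs : ∀ j, IsSimpleModule (MonoidAlgebra (ResField M) G) (MonoidAlgebra (ResField M) G ⧸ L j))
    (hz : ∀ j, ∀ w : MonoidAlgebra (ResField M) G ⧸ L j, Cfsg.Agent.H644.idem M B • w = w)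
    (hne : ∀ j j', j ≠ j' → IsEmpty ((MonoidAlgebra (ResField M) G ⧸ L j)
      ≃ₗ[MonoidAlgebra (ResField M) G] (MonoidAlgebra (ResField M) G ⧸ L j'))) :
    Nat.card ι ≤ blockRank p B := by
  classical
  have hfd : ∀ j, FiniteDimensional (ResField M) (MonoidAlgebra (ResField M) G ⧸ L j) := fun j =>
    inferInstanceAs (FiniteDimensional (ResField M)
      (MonoidAlgebra (ResField M) G ⧸ (L j).restrictScalars (ResField M)))
  have hex : ∀ j, ∃ (n : ℕ) (ρ : Representation (ResField M) G (Fin n → ResField M))
      (b : (MonoidAlgebra (ResField M) G ⧸ L j) ≃ₗ[ResField M] (Fin n → ResField M)),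
      ρ.IsIrreducible ∧ ∀ (g : G) s, b (Cfsg.Agent.Blocks.CyclicLower.el (ResField M) g • s) =
        ρ g (b s) := by
    intro j
    have := hs j
    have := hfd j
    exact Cfsg.Agent.Blocks.CyclicSimple.exists_rep (MonoidAlgebra (ResField M) G ⧸ L j)
  choose n ρ b hirr hb using hex
  refine card_le_blockRank hM hB ρ hirr ?_ ?_
  · intro i j hij
    refine ⟨fun ε => (hne i j hij).false ?_⟩
    have h1 := Cfsg.Agent.Blocks.CyclicSimple.exists_linearEquiv
      ((b i).trans (ε.toLinearEquiv.trans (b j).symm)) (fun g s => by
        apply (b j).injective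
        rw [hb]
        simp only [LinearEquiv.trans_apply, LinearEquiv.apply_symm_apply]
        rw [hb]
        exact Representation.IntertwiningMap.isIntertwining _ _ ε.toIntertwiningMap g (b i s))
    exact h1.some
  · intro j
    have h1 : ∀ (a : MonoidAlgebra (ResField M) G) s, b j (a • s) = (ρ j).asAlgebraHom a (b j s) := by
      intro a s
      induction a using MonoidAlgebra.induction_linear with
      | zero => simp
      | add x y hx hy => rw [add_smul, map_add, hx, hy, map_add, LinearMap.add_apply]
      | single g c =>
        rw [Representation.asAlgebraHom_single, LinearMap.smul_apply, ← hb]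
        have h2 : (MonoidAlgebra.single g c : MonoidAlgebra (ResField M) G) =
            c • Cfsg.Agent.Blocks.CyclicLower.el (ResField M) g := by
          simp [Cfsg.Agent.Blocks.CyclicLower.el]
        rw [h2, smul_assoc, map_smul]
    refine LinearMap.ext fun v => ?_
    obtain ⟨s, rfl⟩ := (b j).surjective v
    rw [← h1, hz]
    rfl

end Cfsg.Agent.H653.RankBound
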