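import Mathlib
import Cfsg.Agent.H653.LocalData
import Cfsg.Agent.H653.Extension
import Cfsg.Agent.H653.RankBound
import Cfsg.Agent.CharDeep.LinearChar

/-!
# The lower bound for the number of simple modules of a block with cyclic defect group

`relIndex_le_blockRank`: `(Q, b)` a Brauer pair of `B`, `|Q| = p`, `b` with cyclic defect group `D`,
the block algebra of `b` uniserial with a unique simple module.  Then the stabilizer of `b` in
`N_G(Q)` has index at most `l(B)` over `C_G(Q)`.
-/

set_option autoImplicit false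

open Cfsg

namespace Cfsg.Agent.H653.Lower

open Cfsg.Agent.Blocks.CyclicLower (el el_mul el_one)
open Cfsg.Agent.H653.Coset Cfsg.Agent.H653.ScalarTrace Cfsg.Agent.H653.Nonproj
open Cfsg.Agent.H644 Cfsg.Agent.Blocks.Local

section Alg

variable {K : Type*} [Field K] [IsAlgClosed K] {G : Type*} [Group G] [Finite G]
variable {V : Type*} [AddCommGroup V] [Module K V] [FiniteDimensional K V]

omit [Finite G] in
/-- A central subgroup of order `p` acts trivially on simple modules in characteristic `p`. -/
theorem apply_eq_one {p : ℕ} [Fact p.Prime] [CharP K p] {τ : Representation K G V}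
    (hirr : τ.IsIrreducible) {q : G} (hq : q ^ p = 1) (hc : ∀ g, q * g = g * q) : τ q = 1 := by
  obtain ⟨κ, hκ⟩ := Endo.schur hirr (f := τ q) fun h v => by
    rw [← Module.End.mul_apply, ← Module.End.mul_apply, ← map_mul, ← map_mul, hc]
  have hnt := Endo.nontrivial_of_irreducible hirr
  obtain ⟨v, hv⟩ := exists_ne (0 : V)
  have h1 : ∀ n : ℕ, (τ (q ^ n)) v = κ ^ n • v := by
    intro n
    induction n with
    | zero => simp
    | succ n ih =>
      rw [pow_succ', map_mul, Module.End.mul_apply, ih, map_smul, hκ, smul_smul, pow_succ]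
  have h2 := h1 p
  rw [hq, map_one, Module.End.one_apply] at h2
  have h3 : (κ ^ p - 1) • v = 0 := by rw [sub_smul, one_smul, ← h2, sub_self]
  have h4 : κ ^ p - 1 = 0 := (smul_eq_zero.mp h3).resolve_right hv
  have h5 : κ - 1 = 0 := by
    have h6 : (κ - 1) ^ p = κ ^ p - 1 := by rw [sub_pow_char, one_pow]
    rw [h4] at h6
    exact pow_eq_zero_iff (Fact.out : p.Prime).ne_zero |>.mp h6
  have h6 : κ = 1 := sub_eq_zero.mp h5
  refine LinearMap.ext fun w => ?_
  rw [hκ, h6, one_smul, Module.End.one_apply]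

omit [IsAlgClosed K] [FiniteDimensional K V] [Finite G] in
/-- The composite of a representation with a group automorphism on the group algebra. -/
theorem asAlgebraHom_comp {H : Type*} [Group H] {τ : Representation K H V} (φ : H →* H)
    (a b : MonoidAlgebra K H) (hab : MonoidAlgebra.mapDomainAlgHom K K φ a = b) :
    Representation.asAlgebraHom (τ.comp φ) a = τ.asAlgebraHom b := by
  subst hab
  induction a using MonoidAlgebra.induction_linear with
  | zero => simp
  | add x y hx hy => rw [map_add, hx, hy, map_add, map_add]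
  | single g r =>
    rw [Representation.asAlgebraHom_single]
    have h1 : MonoidAlgebra.mapDomainAlgHom K K φ (MonoidAlgebra.single g r) =
        MonoidAlgebra.single (φ g) r := by simp
    rw [h1, Representation.asAlgebraHom_single]
    rfl

end Alg

universe u

variable {p : ℕ} [Fact p.Prime] {M : Ideal AlgInt} [M.IsPrime] {G : Type u} [Group G] [Finite G]

/-- **The lower bound.** -/
theorem relIndex_le_blockRank (hM : IsPModular p M) [IsAlgClosed (ResField M)] {D Q : Subgroup G}
    (hD : IsPGroup p D) (hc : IsCyclic D)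
    (hQD : Q ≤ D) (hQ : Nat.card Q = p) {B : Set (IrrCharacter G)}
    {b : Set (IrrCharacter (Subgroup.centralizer (Q : Set G)))}
    (hBb : IsBrauerPairOf p M B Q b)
    (hdef : IsDefectGroup p M b (D.subgroupOf (Subgroup.centralizer (Q : Set G))))
    {V : Type*} [AddCommGroup V] [Module (ResField M) V] [FiniteDimensional (ResField M) V]
    {τ : Representation (ResField M) (Subgroup.centralizer (Q : Set G)) V}
    (hirr : τ.IsIrreducible) (hτe : τ.asAlgebraHom (idem M b) = 1)
    (huniq : ∀ ρ : Representation (ResField M) (Subgroup.centralizer (Q : Set G)) V,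
      ρ.IsIrreducible → ρ.asAlgebraHom (idem M b) = 1 → ∃ A : V ≃ₗ[ResField M] V,
        ∀ c v, A (τ c v) = ρ c (A v))
    {x : MonoidAlgebra (ResField M) (Subgroup.centralizer (Q : Set G))} {m : ℕ} (hx : IsCls x)
    (h1 : x ^ m * idem M b = 0)
    (h2 : ∀ k ≤ m, ∀ a, a * idem M b = a → x ^ k * a = 0 →
      ∃ b', a = x ^ (m - k) * b' * idem M b)
    (h3 : ∀ a, a * idem M b = a → τ.asAlgebraHom a = 0 → ∃ b', a = x * b' * idem M b) :
    (Subgroup.centralizer (Q : Set G)).relIndex (pairStab M Q b) ≤ blockRank p B := by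
  classical
  have hcp := charP_resField hM
  have := Fintype.ofFinite D
  have hpair := ((isBrauerPairOf_iff hM).1 hBb).1
  have hB := ((isBrauerPairOf_iff hM).1 hBb).2.1
  have hb : IsPBlock M b := hpair.2
  have hDC : D ≤ Subgroup.centralizer (Q : Set G) := by
    intro d hd
    rw [Subgroup.mem_centralizer_iff]
    intro q hq
    letI : CommGroup D := IsCyclic.commGroup
    exact congrArg Subtype.val (mul_comm (⟨q, hQD hq⟩ : D) ⟨d, hd⟩)
  obtain ⟨c₀, hld⟩ := LocalData.exists_ld hM hD hc hQD hQ hDC hb hdef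
  obtain ⟨ρ₀, hze⟩ := LocalData.exists_hze hM hD hc hQD hQ hDC hBb
  set T := pairStab M Q b with hT
  have hTN : T ≤ Subgroup.normalizer (Q : Set G) := pairStab_le_normalizer Q b
  have hCT : Subgroup.centralizer (Q : Set G) ≤ T := centralizer_le_pairStab Q b
  have hn : ∀ t ∈ T, ∀ c ∈ Subgroup.centralizer (Q : Set G),
      t * c * t⁻¹ ∈ Subgroup.centralizer (Q : Set G) := fun t ht c hc' =>
    CycGroup.conj_mem_centralizer (hTN ht) hc'
  obtain ⟨t₀, ht₀, hgen⟩ := CycGroup.exists_gen hQ hTN
  have hr : (((Subgroup.centralizer (Q : Set G)).relIndex T : ℕ) : ResField M) ≠ 0 := by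
    intro h
    exact CycGroup.not_dvd_relIndex hQ hTN ((CharP.cast_eq_zero_iff (ResField M) p _).mp h)
  -- the twisted representation
  have hN0 := mem_normalizer_centralizer (hTN ht₀)
  set φ := cjE t₀ (Subgroup.centralizer (Q : Set G)) (Subgroup.centralizer (Q : Set G))
    (mem_iff_conj_mem_of_mem_normalizer hN0) with hφ
  have hirr' : Representation.IsIrreducible (τ.comp φ.toMonoidHom) :=
    Cfsg.Agent.CharDeep.LinearChar.isIrreducible_comp _ φ.surjective _ hirr
  have hφe : MonoidAlgebra.mapDomainAlgHom (ResField M) (ResField M) φ.toMonoidHom (idem M b) =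
      idem M b := by
    apply emb_injective
    rw [← ht₀.2]
    refine ext_coeff fun g => ?_
    rw [coeff_cj]
    by_cases hg : g ∈ Subgroup.centralizer (Q : Set G)
    · have hg' : t₀⁻¹ * g * t₀ ∈ Subgroup.centralizer (Q : Set G) :=
        ((mem_iff_conj_mem_of_mem_normalizer hN0) _).2 (by simpa [mul_assoc] using hg)
      rw [coeff_emb_of_mem _ hg, coeff_emb_of_mem _ hg']
      have h4 : (⟨g, hg⟩ : Subgroup.centralizer (Q : Set G)) = φ ⟨t₀⁻¹ * g * t₀, hg'⟩ :=
        Subtype.ext (by rw [hφ, coe_cjE]; simp [mul_assoc])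
      rw [h4]
      exact Finsupp.mapDomain_apply φ.injective _ _
    · have hg' : t₀⁻¹ * g * t₀ ∉ Subgroup.centralizer (Q : Set G) := fun h =>
        hg (by simpa [mul_assoc] using ((mem_iff_conj_mem_of_mem_normalizer hN0) _).1 h)
      rw [coeff_emb_of_notMem _ hg, coeff_emb_of_notMem _ hg']
  obtain ⟨A, hA⟩ := huniq _ hirr' ((asAlgebraHom_comp (τ := τ) φ.toMonoidHom _ _ hφe).trans hτe)
  obtain ⟨σ, hσ, hστ⟩ := Extension.exists_ext hCT hn ht₀ hgen hirr A fun c v => hA c v
  have hσQ : ∀ q ∈ Q, σ q = 1 := by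
    intro q hq
    have hqC : q ∈ Subgroup.centralizer (Q : Set G) := hDC (hQD hq)
    have h5 := hστ ⟨q, hqC⟩
    rw [show σ q = τ ⟨q, hqC⟩ from h5]
    refine apply_eq_one (p := p) hirr ?_ fun g => ?_
    · apply Subtype.ext
      show q ^ p = 1
      rw [← hQ]
      exact congrArg Subtype.val (pow_card_eq_one' (G := Q) (x := ⟨q, hq⟩))
    · apply Subtype.ext
      exact (Subgroup.mem_centralizer_iff.1 g.2) q hq
  obtain ⟨J, _, μ, hJ, hμ, hμC, hμ1⟩ := Extension.exists_chars (K := ResField M) hn
    (CycGroup.comm_mem hQ hTN) hr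
  obtain ⟨L, hL1, hL2, hL3⟩ := Family.exists_family hld hQD
    (by rw [hQ]; exact CharP.cast_eq_zero _ p) hirr (isCls_comm hx) (isCls_comm (isCls_idem b))
    (idem_mul_self hM (isUnion_of_isPBlock hb)) hτe h1 h2 h3 hr hσ hστ hσQ
    (isCls_comm (isCls_idem B)) (idem_mul_self hM (isUnion_of_isPBlock hB)) hze μ hμ
    (fun j c hc' => hμC j c hc' (hCT hc')) hμ1
  rw [← hJ]
  exact RankBound.card_le_blockRank_of_simple hM hB L hL1 hL2 hL3

end Cfsg.Agent.H653.Lower
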