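import Mathlib
import Cfsg.Agent.Blocks.CyclicComb

/-!
# The structure of an integral matrix with Gram matrix `e + δ` on the orbits

`T` acts on `J` with a fixed point `j₀`, `T / K₀` of order `e` acts freely on the other points,
`v : I → J → ℤ` is constant on orbits, the rows `v χ · - v χ j₀` are nonzero and have Gram matrix
`e + δ`.  If there are at least `e + m` rows, `m` the number of orbits different from `{j₀}`, then
the rows are `± (1, …, 1)` (`e` of them) and `±` unit vectors, one for each orbit.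
-/

set_option autoImplicit false
set_option linter.unusedSectionVars false

namespace Cfsg.Agent.H653.CycStruct

variable {I J T : Type*} [Fintype I] [Fintype J] [Group T] [Fintype T] [MulAction T J]
  {K₀ : Subgroup T}

/-- The number of orbits. -/
theorem card_orbits {q m : ℕ} (hJ : Fintype.card J = q) (hqm : q = m * K₀.index + 1)
    (hK : ∀ t ∈ K₀, ∀ j : J, t • j = j) {j₀ : J} (hj₀ : ∀ t : T, t • j₀ = j₀)
    (hfr : ∀ t ∉ K₀, ∀ j ≠ j₀, t • j ≠ j) :
    Nat.card (Quotient (MulAction.orbitRel T J)) = m + 1 := by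
  classical
  have := Fintype.ofFinite (Quotient (MulAction.orbitRel T J))
  have h1 := MulAction.sum_card_fixedBy_eq_card_orbits_mul_card_group T J
  have h2 : ∀ t : T, Fintype.card (MulAction.fixedBy J t) = if t ∈ K₀ then q else 1 := by
    intro t
    split_ifs with ht
    · rw [← hJ]
      have h3 : MulAction.fixedBy J t = Set.univ := by
        ext j
        simp [MulAction.mem_fixedBy, hK t ht]
      rw [Fintype.card_congr (Equiv.setCongr h3)]
      exact Fintype.card_congr (Equiv.Set.univ J)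
    · have h3 : MulAction.fixedBy J t = {j₀} := by
        ext j
        rw [MulAction.mem_fixedBy, Set.mem_singleton_iff]
        constructor
        · intro h
          by_contra hne
          exact hfr t ht j hne h
        · rintro rfl
          exact hj₀ t
      rw [Fintype.card_congr (Equiv.setCongr h3)]
      exact Set.card_singleton _
  have h3 : ∑ t : T, Fintype.card (MulAction.fixedBy J t) =
      Nat.card K₀ * q + (Nat.card T - Nat.card K₀) := by
    rw [Finset.sum_congr rfl fun t _ => h2 t, Finset.sum_ite, Finset.sum_const, Finset.sum_const,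
      smul_eq_mul, smul_eq_mul, mul_one]
    have h4 : (Finset.univ.filter fun t : T => t ∈ K₀).card = Nat.card K₀ := by
      rw [← Fintype.card_subtype, ← Nat.card_eq_fintype_card]
    have h5 := Finset.card_filter_add_card_filter_not (s := (Finset.univ : Finset T))
      (fun t : T => t ∈ K₀)
    rw [h4, Finset.card_univ, ← Nat.card_eq_fintype_card] at h5
    rw [h4]
    omega
  rw [h3] at h1
  have h4 : Nat.card T = Nat.card K₀ * K₀.index := (Subgroup.card_mul_index K₀).symm
  have hpos : 0 < Nat.card K₀ := Nat.card_pos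
  have hi : 0 < K₀.index := Nat.pos_of_ne_zero Subgroup.index_ne_zero_of_finite
  rw [Nat.card_eq_fintype_card]
  have h5 : Nat.card K₀ * q + (Nat.card T - Nat.card K₀) = Nat.card K₀ * (K₀.index * (m + 1)) := by
    rw [h4, hqm]
    obtain ⟨i, hi'⟩ : ∃ i, K₀.index = i + 1 := ⟨K₀.index - 1, by omega⟩
    rw [hi', mul_add (Nat.card K₀) i 1, mul_one, Nat.add_sub_cancel]
    ring
  have h6 : Nat.card K₀ * (K₀.index * (m + 1)) =
      Nat.card K₀ * (K₀.index * Fintype.card (Quotient (MulAction.orbitRel T J))) := by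
    rw [← h5, h1, ← Nat.card_eq_fintype_card (α := T), h4]
    ring
  have h7 := Nat.eq_of_mul_eq_mul_left hpos h6
  exact (Nat.eq_of_mul_eq_mul_left hi h7).symm

variable {v : I → J → ℤ}

/-- **The structure of the rows.** -/
theorem exists_struct {q m e : ℕ} (he : K₀.index = e) (hm : 0 < m)
    (hJ : Fintype.card J = q) (hqm : q = m * e + 1)
    (hK : ∀ t ∈ K₀, ∀ j : J, t • j = j) {j₀ : J} (hj₀ : ∀ t : T, t • j₀ = j₀)
    (hfr : ∀ t ∉ K₀, ∀ j ≠ j₀, t • j ≠ j)
    (hv : ∀ χ (t : T) j, v χ (t • j) = v χ j)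
    (hrow : ∀ χ, ∃ j, v χ j ≠ v χ j₀)
    (hgram : ∀ j j', j ≠ j₀ → j' ≠ j₀ → (∃ t : T, t • j = j') →
      ∑ χ, (v χ j - v χ j₀) * (v χ j' - v χ j₀) = e + 1)
    (hgram0 : ∀ j j', j ≠ j₀ → j' ≠ j₀ → (¬ ∃ t : T, t • j = j') →
      ∑ χ, (v χ j - v χ j₀) * (v χ j' - v χ j₀) = e)
    (hk : e + m ≤ Fintype.card I) :
    Fintype.card I = e + m ∧ ∃ (X Y : Finset I) (δ : I → ℤ) (o : I → J), Disjoint X Y ∧
      (∀ χ, χ ∈ X ∨ χ ∈ Y) ∧ X.card = e ∧ Y.card = m ∧ (∀ χ, δ χ = 1 ∨ δ χ = -1) ∧
      (∀ χ ∈ X, ∀ j, j ≠ j₀ → v χ j - v χ j₀ = δ χ) ∧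
      (∀ χ ∈ Y, o χ ≠ j₀) ∧
      (∀ χ ∈ Y, ∀ j, j ≠ j₀ → (∃ t : T, t • o χ = j) → v χ j - v χ j₀ = δ χ) ∧
      (∀ χ ∈ Y, ∀ j, j ≠ j₀ → (¬ ∃ t : T, t • o χ = j) → v χ j - v χ j₀ = 0) ∧
      (∀ j, j ≠ j₀ → ∃ χ ∈ Y, (∃ t : T, t • o χ = j) ∧
        ∀ χ' ∈ Y, (∃ t : T, t • o χ' = j) → χ' = χ) := by
  classical
  have hcardq := card_orbits hJ (by rw [he]; exact hqm) hK hj₀ hfr
  let S := Quotient (MulAction.orbitRel T J)
  have : Fintype S := Fintype.ofFinite S
  let Ω := {x : S // x ≠ Quotient.mk _ j₀}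
  have hΩ : Fintype.card Ω = m := by
    have h1 : Fintype.card Ω = Fintype.card S - 1 := by
      rw [Fintype.card_subtype_compl, Fintype.card_subtype_eq]
    rw [h1, ← Nat.card_eq_fintype_card, hcardq]
    omega
  -- representatives
  let r : Ω → J := fun x => x.1.out
  have hr0 : ∀ x, r x ≠ j₀ := by
    intro x h
    apply x.2
    have h' : Quotient.mk (MulAction.orbitRel T J) (r x) = x.1 := Quotient.out_eq _
    exact h'.symm.trans (congrArg _ h)
  have hmk : ∀ j : J, j ≠ j₀ → (Quotient.mk (MulAction.orbitRel T J) j) ≠ Quotient.mk _ j₀ := by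
    intro j hj h
    obtain ⟨t, ht⟩ : ∃ t : T, t • j₀ = j := Quotient.exact h
    exact hj (by rw [← ht, hj₀])
  have hrel : ∀ (x : Ω) (j : J), (∃ t : T, t • r x = j) ↔ x.1 = Quotient.mk _ j := by
    intro x j
    constructor
    · rintro ⟨t, rfl⟩
      have h1 : Quotient.mk (MulAction.orbitRel T J) (t • r x) =
          Quotient.mk (MulAction.orbitRel T J) (r x) := Quotient.sound ⟨t, rfl⟩
      rw [h1]
      exact (Quotient.out_eq _).symm
    · intro h
      have h1 : Quotient.mk (MulAction.orbitRel T J) (r x) = Quotient.mk _ j := by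
        rw [← h]
        exact Quotient.out_eq _
      obtain ⟨t, ht⟩ : ∃ t : T, t • j = r x := Quotient.exact h1
      exact ⟨t⁻¹, by rw [← ht, inv_smul_smul]⟩
  have hrr : ∀ x y : Ω, (∃ t : T, t • r x = r y) ↔ x = y := by
    intro x y
    rw [hrel]
    have h1 : Quotient.mk (MulAction.orbitRel T J) (r y) = y.1 := Quotient.out_eq _
    rw [h1]
    exact Subtype.ext_iff.symm
  let a : I → Ω → ℤ := fun χ x => v χ (r x) - v χ j₀
  have hav : ∀ χ (x : Ω) j, (∃ t : T, t • r x = j) → v χ j - v χ j₀ = a χ x := by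
    rintro χ x j ⟨t, rfl⟩
    show v χ (t • r x) - _ = v χ (r x) - _
    rw [hv]
  have hex : ∀ j, j ≠ j₀ → ∃ x : Ω, ∃ t : T, t • r x = j := by
    intro j hj
    exact ⟨⟨_, hmk j hj⟩, (hrel _ j).mpr rfl⟩
  have hg : ∀ x y, ∑ χ, a χ x * a χ y = (e : ℤ) + if x = y then 1 else 0 := by
    intro x y
    split_ifs with h
    · exact hgram _ _ (hr0 x) (hr0 y) ((hrr x y).mpr h)
    · rw [add_zero]
      exact hgram0 _ _ (hr0 x) (hr0 y) (fun h' => h ((hrr x y).mp h'))
  have hne : ∀ χ, ∃ x, a χ x ≠ 0 := by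
    intro χ
    obtain ⟨j, hj⟩ := hrow χ
    have hj0 : j ≠ j₀ := fun h => hj (by rw [h])
    obtain ⟨x, hx⟩ := hex j hj0
    refine ⟨x, ?_⟩
    rw [← hav χ x j hx]
    exact sub_ne_zero.mpr hj
  have hnΩ : Nonempty Ω := by
    rw [← Fintype.card_pos_iff, hΩ]
    exact hm
  obtain ⟨hcard, hrows⟩ := Cfsg.Agent.Blocks.CyclicComb.comb e a hg hne (by rw [hΩ]; exact hk)
  rw [hΩ] at hcard
  refine ⟨hcard, ?_⟩
  by_cases hm1 : m = 1
  · -- one orbit
    have hsub : ∀ x y : Ω, x = y := by
      have h1 : Fintype.card Ω ≤ 1 := by rw [hΩ, hm1]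
      exact Fintype.card_le_one_iff.mp h1
    have hpos : 0 < Fintype.card I := by omega
    obtain ⟨c₁⟩ := Fintype.card_pos_iff.mp hpos
    obtain ⟨x₁⟩ := hnΩ
    have hδ : ∀ χ, a χ x₁ = 1 ∨ a χ x₁ = -1 := by
      intro χ
      rcases hrows χ with h | h | ⟨i, h⟩ | ⟨i, h⟩
      · exact Or.inl (h x₁)
      · exact Or.inr (h x₁)
      · left; rw [h, if_pos (hsub _ _)]
      · right; rw [h, if_pos (hsub _ _)]
    have hall : ∀ j, j ≠ j₀ → ∃ t : T, t • r x₁ = j := by
      intro j hj
      obtain ⟨x, hx⟩ := hex j hj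
      rw [hsub x₁ x]
      exact hx
    refine ⟨Finset.univ.erase c₁, {c₁}, fun χ => a χ x₁, fun _ => r x₁, ?_, ?_, ?_, ?_, hδ, ?_,
      ?_, ?_, ?_, ?_⟩
    · rw [Finset.disjoint_singleton_right]
      exact Finset.notMem_erase _ _
    · intro χ
      by_cases h : χ = c₁
      · right; rw [h]; exact Finset.mem_singleton_self _
      · left; exact Finset.mem_erase.mpr ⟨h, Finset.mem_univ _⟩
    · rw [Finset.card_erase_of_mem (Finset.mem_univ _), Finset.card_univ, hcard]
      omega
    · rw [Finset.card_singleton, hm1]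
    · intro χ _ j hj
      exact hav χ x₁ j (hall j hj)
    · intro χ _
      exact hr0 x₁
    · intro χ _ j _ hj
      exact hav χ x₁ j hj
    · intro χ _ j hj h
      exact absurd (hall j hj) h
    · intro j hj
      refine ⟨c₁, Finset.mem_singleton_self _, hall j hj, fun χ' h _ => Finset.mem_singleton.mp h⟩
  · -- at least two orbits
    have htwo : ∀ x : Ω, ∃ y, y ≠ x := by
      intro x
      have h1 : 1 < Fintype.card Ω := by rw [hΩ]; omega
      exact Fintype.exists_ne_of_one_lt_card h1 x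
    -- types of rows
    let con : I → Prop := fun χ => ∀ x y, a χ x = a χ y
    have hcon : ∀ χ, con χ → ∀ x, a χ x = 1 ∨ a χ x = -1 := by
      intro χ hχ x
      rcases hrows χ with h | h | ⟨i, h⟩ | ⟨i, h⟩
      · exact Or.inl (h x)
      · exact Or.inr (h x)
      · left; rw [hχ x i, h, if_pos rfl]
      · right; rw [hχ x i, h, if_pos rfl]
    have hunit : ∀ χ, ¬ con χ → ∃ i, (a χ i = 1 ∨ a χ i = -1) ∧ ∀ x, x ≠ i → a χ x = 0 := by
      intro χ hχ
      rcases hrows χ with h | h | ⟨i, h⟩ | ⟨i, h⟩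
      · exact absurd (fun x y => by rw [h, h]) hχ
      · exact absurd (fun x y => by rw [h, h]) hχ
      · exact ⟨i, Or.inl (by rw [h, if_pos rfl]), fun x hx => by rw [h, if_neg hx]⟩
      · exact ⟨i, Or.inr (by rw [h, if_pos rfl]), fun x hx => by rw [h, if_neg hx]⟩
    -- the products of two different columns
    have hprod : ∀ x y, x ≠ y → ∀ χ, a χ x * a χ y = if con χ then 1 else 0 := by
      intro x y hxy χ
      split_ifs with h
      · rw [h y x]
        rcases hcon χ h x with h1 | h1 <;> rw [h1] <;> norm_num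
      · obtain ⟨i, -, hi⟩ := hunit χ h
        by_cases hx : x = i
        · rw [hi y (fun hy => hxy (by rw [hx, hy])), mul_zero]
        · rw [hi x hx, zero_mul]
    obtain ⟨x₀⟩ := hnΩ
    obtain ⟨y₀, hy₀⟩ := htwo x₀
    have hX : ((Finset.univ.filter con).card : ℤ) = e := by
      have h1 := hg x₀ y₀
      rw [if_neg (Ne.symm hy₀), add_zero, Finset.sum_congr rfl fun χ _ => hprod x₀ y₀ (Ne.symm hy₀) χ,
        ← Finset.sum_filter, Finset.sum_const, nsmul_eq_mul, mul_one] at h1
      exact h1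
    -- the squares
    have hsq : ∀ x χ, a χ x * a χ x = (if con χ then 1 else 0) +
        if ¬ con χ ∧ a χ x ≠ 0 then 1 else 0 := by
      intro x χ
      by_cases h : con χ
      · rw [if_pos h, if_neg (fun h' => h'.1 h)]
        rcases hcon χ h x with h1 | h1 <;> rw [h1] <;> norm_num
      · rw [if_neg h, zero_add]
        obtain ⟨i, hi1, hi⟩ := hunit χ h
        by_cases hx : x = i
        · rw [hx]
          rw [if_pos ⟨h, by rcases hi1 with h1 | h1 <;> rw [h1] <;> norm_num⟩]
          rcases hi1 with h1 | h1 <;> rw [h1] <;> norm_num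
        · rw [hi x hx, if_neg (fun h' => h'.2 rfl), mul_zero]
    have hone : ∀ x, (Finset.univ.filter fun χ => ¬ con χ ∧ a χ x ≠ 0).card = 1 := by
      intro x
      have h1 := hg x x
      rw [if_pos rfl, Finset.sum_congr rfl fun χ _ => hsq x χ, Finset.sum_add_distrib,
        ← Finset.sum_filter, ← Finset.sum_filter, Finset.sum_const, Finset.sum_const,
        nsmul_eq_mul, mul_one, nsmul_eq_mul, mul_one, hX] at h1
      have h2 : ((Finset.univ.filter fun χ => ¬ con χ ∧ a χ x ≠ 0).card : ℤ) = 1 := by linarith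
      exact_mod_cast h2
    have hinh : Inhabited Ω := ⟨x₀⟩
    choose! i hi1 hi using hunit
    have hia : ∀ χ, ¬ con χ → ∀ x, a χ x ≠ 0 ↔ x = i χ := by
      intro χ hχ x
      constructor
      · intro h
        by_contra hne'
        exact h (hi χ hχ x hne')
      · rintro rfl
        rcases hi1 χ hχ with h1 | h1 <;> rw [h1] <;> norm_num
    refine ⟨Finset.univ.filter con, Finset.univ.filter fun χ => ¬ con χ,
      fun χ => if con χ then a χ x₀ else a χ (i χ), fun χ => r (i χ), ?_, ?_, ?_, ?_, ?_, ?_, ?_,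
      ?_, ?_, ?_⟩
    · exact Finset.disjoint_filter_filter_not _ _ _
    · intro χ
      by_cases h : con χ
      · left; exact Finset.mem_filter.mpr ⟨Finset.mem_univ _, h⟩
      · right; exact Finset.mem_filter.mpr ⟨Finset.mem_univ _, h⟩
    · exact_mod_cast hX
    · have h1 := Finset.card_filter_add_card_filter_not (s := (Finset.univ : Finset I)) con
      have h2 : (Finset.univ.filter con).card = e := by exact_mod_cast hX
      rw [Finset.card_univ, hcard, h2] at h1
      omega
    · intro χ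
      show (if con χ then a χ x₀ else a χ (i χ)) = 1 ∨ (if con χ then a χ x₀ else a χ (i χ)) = -1
      split_ifs with h
      · exact hcon χ h x₀
      · exact hi1 χ h
    · intro χ hχ j hj
      have h := (Finset.mem_filter.mp hχ).2
      show _ = if con χ then a χ x₀ else a χ (i χ)
      rw [if_pos h]
      obtain ⟨x, hx⟩ := hex j hj
      rw [hav χ x j hx]
      exact h x x₀
    · intro χ _
      exact hr0 _
    · intro χ hχ j _ hj
      have h := (Finset.mem_filter.mp hχ).2
      show _ = if con χ then a χ x₀ else a χ (i χ)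
      rw [if_neg h]
      exact hav χ _ j hj
    · intro χ hχ j hj hnot
      have h := (Finset.mem_filter.mp hχ).2
      obtain ⟨x, hx⟩ := hex j hj
      rw [hav χ x j hx]
      apply hi χ h
      rintro rfl
      exact hnot hx
    · intro j hj
      obtain ⟨x, hx⟩ := hex j hj
      obtain ⟨c, hc⟩ := Finset.card_eq_one.mp (hone x)
      have hc1 : c ∈ Finset.univ.filter fun χ => ¬ con χ ∧ a χ x ≠ 0 := by
        rw [hc]
        exact Finset.mem_singleton_self _
      have hc2 := (Finset.mem_filter.mp hc1).2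
      have hxi : ∀ χ', ¬ con χ' → (∃ t : T, t • r (i χ') = j) → x = i χ' := by
        intro χ' _ h'
        have h1 := (hrel _ j).mp hx
        have h2 := (hrel _ j).mp h'
        exact Subtype.ext (h1.trans h2.symm)
      refine ⟨c, Finset.mem_filter.mpr ⟨Finset.mem_univ _, hc2.1⟩, ?_, ?_⟩
      · show ∃ t : T, t • r (i c) = j
        rw [← (hia c hc2.1 x).mp hc2.2]
        exact hx
      · intro χ' hχ' h'
        have hn := (Finset.mem_filter.mp hχ').2
        have h1 : χ' ∈ Finset.univ.filter fun χ => ¬ con χ ∧ a χ x ≠ 0 :=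
          Finset.mem_filter.mpr ⟨Finset.mem_univ _, hn, (hia χ' hn x).mpr (hxi χ' hn h')⟩
        rw [hc] at h1
        exact Finset.mem_singleton.mp h1

end Cfsg.Agent.H653.CycStruct
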