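import Mathlib
import Cfsg.Agent.H653.CycCols
import Cfsg.Agent.H653.CycLower
import Cfsg.Agent.H653.PermGram
import Cfsg.Agent.H653.CycStruct
import Cfsg.Agent.H642.F2

/-!
# Blocks with cyclic defect group: the number of characters

`main`: `k(B) = e + m`, `l(B) = e`, and the rows `v χ · - v χ j₀` are `± (1, …, 1)` or `±` unit
vectors.
-/

set_option autoImplicit false
set_option linter.unusedSectionVars false

open Cfsg
open scoped ComplexConjugate

namespace Cfsg.Agent.H653.CycMain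

open Cfsg.Agent.Blocks.Local Cfsg.Agent.Characters
open Cfsg.Agent.H613.SubSys Cfsg.Agent.H613.SubFus Cfsg.Agent.H613.RegGram
open Cfsg.Agent.H639 Cfsg.Agent.H649 Cfsg.Agent.H651
open Cfsg.Agent.H653.ColBasic Cfsg.Agent.H653.CycPairs Cfsg.Agent.H653.CycCols

universe u

variable {G : Type u} [Group G] [Fintype G] {p : ℕ} [Fact p.Prime] {M : Ideal AlgInt} [M.IsPrime]
  {B : Set (IrrCharacter G)} {a : BrauerPairIdx G} {z : G}

variable (h : Hyp p M B a z)

include h

/-- The stabilizer normalizes `C_G(z)`. -/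
theorem mem_cen_iff {t : G} (ht : t ∈ idxStab a) (x : G) :
    x ∈ Subgroup.centralizer ((Subgroup.zpowers z : Subgroup G) : Set G) ↔
      t * x * t⁻¹ ∈ Subgroup.centralizer ((Subgroup.zpowers z : Subgroup G) : Set G) := by
  have h1 : (Subgroup.zpowers z).map (MulAut.conj t).toMonoidHom = Subgroup.zpowers z := by
    have h2 := congrArg Sigma.fst (CycLower.stab_le h ht : conjIdx t (bel p M a z) = bel p M a z)
    rwa [conjIdx_fst] at h2
  have h3 := conj_mem_centralizer_iff t (Subgroup.zpowers z) x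
  rwa [h1] at h3

theorem exists_act {t : G} (ht : t ∈ idxStab a)
    {ψ : IrrCharacter (Subgroup.centralizer ((Subgroup.zpowers z : Subgroup G) : Set G))}
    (hψ : ψ ∈ b1 p M a z) : ∃ ψ' ∈ b1 p M a z, (ei ψ' : G → ℂ) = cf t (ei ψ) := by
  have h1 : Tst (bel p M a z) (ei ψ) := tst_ei.mpr hψ
  have h2 : Tst (bel p M a z) (cf t (ei ψ)) := by
    have h3 := (tst_cf (r := bel p M a z) t).mpr h1
    rwa [(CycLower.stab_le h ht : conjIdx t (bel p M a z) = bel p M a z)] at h3
  obtain ⟨ψ', hψ', h3⟩ := exists_ei h2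
  refine ⟨ψ', hψ', ?_⟩
  funext x
  by_cases hx : x ∈ Subgroup.centralizer ((Subgroup.zpowers z : Subgroup G) : Set G)
  · exact (h3 x hx).symm
  · refine (ei_of_notMem ψ' hx).trans ?_
    rw [cf_apply, ei_of_notMem]
    intro hx'
    apply hx
    have h4 := (mem_cen_iff h ht _).mp hx'
    have h5 : t * (t⁻¹ * x * t) * t⁻¹ = x := by group
    rwa [h5] at h4

/-- The action of the stabilizer on the characters of `b₁`. -/
@[instance_reducible]
noncomputable def actJ : MulAction (idxStab a) (b1 p M a z) where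
  smul t ψ := ⟨(exists_act h t.2 ψ.2).choose, (exists_act h t.2 ψ.2).choose_spec.1⟩
  one_smul ψ := by
    apply Subtype.ext
    apply ei_injective (G := G)
    exact (exists_act h (idxStab a).one_mem ψ.2).choose_spec.2.trans (cf_one _)
  mul_smul s t ψ := by
    apply Subtype.ext
    apply ei_injective (G := G)
    have h1 := (exists_act h (s * t).2 ψ.2).choose_spec.2
    have h2 := (exists_act h t.2 ψ.2).choose_spec.2
    have h3 := (exists_act h s.2 (exists_act h t.2 ψ.2).choose_spec.1).choose_spec.2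
    refine h1.trans ?_
    refine Eq.trans ?_ h3.symm
    rw [h2, ← cf_cf]
    rfl

theorem ei_smul (t : idxStab a) (ψ : b1 p M a z) :
    (ei ((actJ h).toSMul.smul t ψ).1 : G → ℂ) = cf (t : G) (ei ψ.1) :=
  (exists_act h t.2 ψ.2).choose_spec.2

/-- The action of the stabilizer on `D`. -/
@[instance_reducible]
def actU : MulAction (idxStab a) a.1 where
  smul t u := ⟨t * u * (t : G)⁻¹, h.conj_mem t.2 u.2⟩
  one_smul u := Subtype.ext (by
    show ((1 : idxStab a) : G) * u * ((1 : idxStab a) : G)⁻¹ = u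
    simp)
  mul_smul s t u := Subtype.ext (by
    show ((s * t : idxStab a) : G) * u * ((s * t : idxStab a) : G)⁻¹ =
      s * (t * u * (t : G)⁻¹) * (s : G)⁻¹
    rw [Subgroup.coe_mul]
    group)

/-- A generator of the stabilizer modulo the centralizer. -/
theorem exists_gen : ∃ t₀ : idxStab a, ∀ t : idxStab a, ∃ i : ℤ,
    (t₀ ^ i)⁻¹ * t ∈ (Subgroup.centralizer (a.1 : Set G)).subgroupOf (idxStab a) := by
  have hn : ((Subgroup.centralizer (a.1 : Set G)).subgroupOf (idxStab a)).Normal := ⟨fun c hc t => by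
    rw [Subgroup.mem_subgroupOf] at hc ⊢
    exact CycGroup.conj_mem_centralizer (h.mem_normalizer t.2) hc⟩
  have hD1 : a.1 ≠ ⊥ := by
    intro h1
    have h2 := h.hz
    rw [h1, Subgroup.mem_bot] at h2
    exact h.z_ne h2
  obtain ⟨hc, -⟩ := Cfsg.Agent.H641.isCyclic_quotient_and_dvd (Fact.out : p.Prime) h.isPGroup hD1
    h.hcyc (fun _ hx => h.mem_normalizer hx) h.centralizer_le_stab h.not_dvd
  obtain ⟨g, hg⟩ := hc.exists_generator
  induction g using QuotientGroup.induction_on with | _ t₀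
  refine ⟨t₀, fun t => ?_⟩
  obtain ⟨i, hi⟩ := Subgroup.mem_zpowers_iff.mp (hg (QuotientGroup.mk t))
  refine ⟨i, ?_⟩
  rw [← QuotientGroup.eq]
  exact hi

theorem dvd_sub_one : (Subgroup.centralizer (a.1 : Set G)).relIndex (idxStab a) ∣ p - 1 := by
  have hn : ((Subgroup.centralizer (a.1 : Set G)).subgroupOf (idxStab a)).Normal := ⟨fun c hc t => by
    rw [Subgroup.mem_subgroupOf] at hc ⊢
    exact CycGroup.conj_mem_centralizer (h.mem_normalizer t.2) hc⟩
  have hD1 : a.1 ≠ ⊥ := by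
    intro h1
    have h2 := h.hz
    rw [h1, Subgroup.mem_bot] at h2
    exact h.z_ne h2
  exact (Cfsg.Agent.H641.isCyclic_quotient_and_dvd (Fact.out : p.Prime) h.isPGroup hD1
    h.hcyc (fun _ hx => h.mem_normalizer hx) h.centralizer_le_stab h.not_dvd).2

/-- Multiplicities are constant on orbits. -/
theorem mult_smul (t : idxStab a) (ψ : b1 p M a z) (χ : IrrCharacter G) :
    mult _ χ ((actJ h).toSMul.smul t ψ).1 = mult _ χ ψ.1 := by
  have h1 := mult_spec _ χ ((actJ h).toSMul.smul t ψ).1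
  have h2 := mult_spec _ χ ψ.1
  rw [ei_smul] at h1
  have h3 := ip_cf (t : G) (mem_cen_iff h t.2) (χ : G → ℂ) (ei ψ.1)
  rw [cf_of_isClassFunction (Core.isIrr_isClassFunction χ.2), h1, h2] at h3
  exact_mod_cast h3

theorem card_b1 : Nat.card (b1 p M a z) = Nat.card a.1 := (h.bel_data h.hz h.z_ne).2.2.1

/-- Decomposition into `l(B)` and the orbits of the stabilizer on `D`. -/
theorem card_block {m : ℕ} (hm : Nat.card a.1 =
    m * (Subgroup.centralizer (a.1 : Set G)).relIndex (idxStab a) + 1) :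
    Nat.card B = blockRank p B + m := by
  classical
  let _ := actU h
  have hK : ∀ t ∈ (Subgroup.centralizer (a.1 : Set G)).subgroupOf (idxStab a), ∀ u : a.1,
      t • u = u := by
    intro t ht u
    apply Subtype.ext
    show (t : G) * u * (t : G)⁻¹ = u
    have h1 := Subgroup.mem_centralizer_iff.mp (Subgroup.mem_subgroupOf.mp ht) u u.2
    rw [← h1, mul_inv_cancel_right]
  have h0 : ∀ t : idxStab a, t • (1 : a.1) = 1 := by
    intro t
    apply Subtype.ext
    show (t : G) * ((1 : a.1) : G) * (t : G)⁻¹ = ((1 : a.1) : G)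
    simp
  have hfr : ∀ t ∉ (Subgroup.centralizer (a.1 : Set G)).subgroupOf (idxStab a), ∀ u : a.1,
      u ≠ 1 → t • u ≠ u := by
    intro t ht u hu hcon
    apply ht
    rw [Subgroup.mem_subgroupOf]
    exact h.mem_centralizer t.2 u.2 (fun h' => hu (Subtype.ext h')) (congrArg Subtype.val hcon)
  have hco := CycStruct.card_orbits (K₀ := (Subgroup.centralizer (a.1 : Set G)).subgroupOf
    (idxStab a)) (J := a.1) (q := Nat.card a.1) (m := m) (Nat.card_eq_fintype_card).symm hm hK h0 hfr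
  let S := Quotient (MulAction.orbitRel (idxStab a) a.1)
  have : Fintype S := Fintype.ofFinite S
  let ι := {x : S // x ≠ Quotient.mk _ (1 : a.1)}
  have hι : Fintype.card ι = m := by
    have h1 : Fintype.card ι = Fintype.card S - 1 := by
      rw [Fintype.card_subtype_compl, Fintype.card_subtype_eq]
    rw [h1, ← Nat.card_eq_fintype_card, hco]
    omega
  let r : ι → G := fun x => (x.1.out : a.1)
  have hr1 : ∀ i, r i ≠ 1 := by
    intro i h1
    apply i.2
    have h2 : (i.1.out : a.1) = 1 := Subtype.ext h1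
    have h3 : Quotient.mk (MulAction.orbitRel (idxStab a) a.1) (i.1.out : a.1) = i.1 :=
      Quotient.out_eq _
    exact h3.symm.trans (congrArg _ h2)
  have hsys := isSys_of_reps h.hM h.hmax r (fun i => (i.1.out : a.1).2) hr1 (by
      rintro i j ⟨x, hx1, hx2⟩
      obtain ⟨c, _, hc1, hc2⟩ := h.exists_stab (i.1.out : a.1).2 (j.1.out : a.1).2 hx1 (by
        rw [rr_of_ne (hr1 i), rr_of_ne (hr1 j)]
        exact hx2)
      have h3 : (⟨c * x, hc1⟩ : idxStab a) • (i.1.out : a.1) = (j.1.out : a.1) := Subtype.ext hc2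
      apply Subtype.ext
      have h4 : Quotient.mk (MulAction.orbitRel (idxStab a) a.1) (j.1.out : a.1) =
          Quotient.mk (MulAction.orbitRel (idxStab a) a.1) (i.1.out : a.1) :=
        Quotient.sound ⟨⟨c * x, hc1⟩, h3⟩
      have h5 : Quotient.mk (MulAction.orbitRel (idxStab a) a.1) (i.1.out : a.1) = i.1 :=
        Quotient.out_eq _
      have h6 : Quotient.mk (MulAction.orbitRel (idxStab a) a.1) (j.1.out : a.1) = j.1 :=
        Quotient.out_eq _
      rw [← h5, ← h6, h4]) (by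
      intro v hv hv1
      have hne : Quotient.mk (MulAction.orbitRel (idxStab a) a.1) (⟨v, hv⟩ : a.1) ≠
          Quotient.mk _ (1 : a.1) := by
        intro h1
        obtain ⟨t, ht⟩ : ∃ t : idxStab a, t • (1 : a.1) = ⟨v, hv⟩ := Quotient.exact h1
        rw [h0] at ht
        exact hv1 (congrArg Subtype.val ht).symm
      refine ⟨⟨_, hne⟩, ?_⟩
      have h7 : Quotient.mk (MulAction.orbitRel (idxStab a) a.1)
          ((Quotient.mk (MulAction.orbitRel (idxStab a) a.1) (⟨v, hv⟩ : a.1)).out : a.1) =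
          Quotient.mk (MulAction.orbitRel (idxStab a) a.1) (⟨v, hv⟩ : a.1) := Quotient.out_eq _
      obtain ⟨t, ht⟩ : ∃ t : idxStab a, t • (⟨v, hv⟩ : a.1) =
          ((Quotient.mk (MulAction.orbitRel (idxStab a) a.1) (⟨v, hv⟩ : a.1)).out : a.1) :=
        Quotient.exact h7
      have h2 : r ⟨_, hne⟩ = t * v * (t : G)⁻¹ := (congrArg Subtype.val ht).symm
      have h3 : Fus p M a v (r ⟨_, hne⟩) := by
        refine ⟨t, h2.symm, ?_⟩
        rw [h2]
        exact conjIdx_bel h.hM h.pair t.2 hv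
      exact h3.symm)
  have h1 := hsys.card_eq h.hM h.hmax.1.2.1
  rw [h1]
  congr 1
  have h2 : ∀ i : ι, blockRank p (bel p M a (r i)).2 = 1 := fun i =>
    (h.bel_data (i.1.out : a.1).2 (hr1 i)).2.1
  rw [Finset.sum_congr rfl fun i _ => h2 i, Finset.sum_const, smul_eq_mul, mul_one,
    Finset.card_univ, hι]

/-- The rows: a structure theorem. -/
theorem exists_rows {m e : ℕ}
    (he : (Subgroup.centralizer (a.1 : Set G)).relIndex (idxStab a) = e)
    (hm : Nat.card a.1 = m * e + 1) :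
    blockRank p B = e ∧ Nat.card B = e + m ∧ ∃ (ψ₀ : b1 p M a z) (X Y : Finset B) (δ : B → ℤ)
      (O : B → b1 p M a z → Prop),
      Disjoint X Y ∧ (∀ χ, χ ∈ X ∨ χ ∈ Y) ∧ X.card = e ∧ Y.card = m ∧
      (∀ χ, δ χ = 1 ∨ δ χ = -1) ∧
      (∀ χ ∈ X, ∀ j, j ≠ ψ₀ → (mult _ χ.1 j.1 : ℤ) - (mult _ χ.1 ψ₀.1 : ℤ) = δ χ) ∧
      (∀ χ ∈ Y, ¬ O χ ψ₀) ∧
      (∀ χ ∈ Y, ∀ j, j ≠ ψ₀ → O χ j → (mult _ χ.1 j.1 : ℤ) - (mult _ χ.1 ψ₀.1 : ℤ) = δ χ) ∧
      (∀ χ ∈ Y, ∀ j, j ≠ ψ₀ → ¬ O χ j → (mult _ χ.1 j.1 : ℤ) - (mult _ χ.1 ψ₀.1 : ℤ) = 0) ∧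
      (∀ χ ∈ Y, ∃ j, j ≠ ψ₀ ∧ O χ j) ∧
      (∀ j, j ≠ ψ₀ → ∃ χ ∈ Y, O χ j ∧ ∀ χ' ∈ Y, O χ' j → χ' = χ) := by
  classical
  let _ := actU h
  let _ := actJ h
  have hfinB := Core.finite_irr (G := G)
  have : Fintype B := Fintype.ofFinite B
  have hfinC := Core.finite_irr
    (G := Subgroup.centralizer ((Subgroup.zpowers z : Subgroup G) : Set G))
  have : Fintype (b1 p M a z) := Fintype.ofFinite (b1 p M a z)
  set q := Nat.card a.1 with hq
  have hq0 : q ≠ 0 := Nat.card_pos.ne'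
  have hJ : Fintype.card (b1 p M a z) = q := by
    rw [← Nat.card_eq_fintype_card, card_b1 h]
  have hU : Fintype.card a.1 = q := by rw [← Nat.card_eq_fintype_card]
  set K₀ := (Subgroup.centralizer (a.1 : Set G)).subgroupOf (idxStab a) with hK₀
  have heK : K₀.index = e := he
  have hKU : ∀ t ∈ K₀, ∀ u : a.1, t • u = u := by
    intro t ht u
    apply Subtype.ext
    show (t : G) * u * (t : G)⁻¹ = u
    have h1 := Subgroup.mem_centralizer_iff.mp (Subgroup.mem_subgroupOf.mp ht) u u.2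
    rw [← h1, mul_inv_cancel_right]
  have h0 : ∀ t : idxStab a, t • (1 : a.1) = 1 := by
    intro t
    apply Subtype.ext
    show (t : G) * ((1 : a.1) : G) * (t : G)⁻¹ = ((1 : a.1) : G)
    simp
  have hfr : ∀ t ∉ K₀, ∀ u : a.1, u ≠ 1 → t • u ≠ u := by
    intro t ht u hu hcon
    apply ht
    rw [Subgroup.mem_subgroupOf]
    exact h.mem_centralizer t.2 u.2 (fun h' => hu (Subtype.ext h')) (congrArg Subtype.val hcon)
  have hKJ : ∀ t ∈ K₀, ∀ j : b1 p M a z, t • j = j := by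
    intro t ht j
    apply Subtype.ext
    apply ei_injective (G := G)
    have h1 : (t : G) ∈ Subgroup.centralizer ((Subgroup.zpowers z : Subgroup G) : Set G) :=
      Subgroup.centralizer_le h.zpowers_le (Subgroup.mem_subgroupOf.mp ht)
    exact (ei_smul h t j).trans (cf_ei j.1 h1)
  -- the matrix
  let w : a.1 → b1 p M a z → ℂ := fun u j => cw p M a z u (ei j.1)
  have hw : ∀ u u' : a.1, ∑ j, w u j * conj (w u' j) = if u = u' then (q : ℂ)⁻¹ else 0 := by
    intro u u'
    split_ifs with hu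
    · rw [hu]
      exact gram_self h u'.2
    · exact gram_ne h u.2 u'.2 fun h' => hu (Subtype.ext h')
  have hw1 : ∀ j j' : b1 p M a z, w 1 j = w 1 j' := fun j j' => by
    show cw p M a z ((1 : a.1) : G) (ei j.1) = cw p M a z ((1 : a.1) : G) (ei j'.1)
    rw [Subgroup.coe_one, cw_one h j.2, cw_one h j'.2]
  have hwT : ∀ (t : idxStab a) (u : a.1) j, w (t • u) (t • j) = w u j := by
    intro t u j
    show cw p M a z (t * u * (t : G)⁻¹) (ei ((actJ h).toSMul.smul t j).1) = _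
    rw [ei_smul]
    exact cw_conj h t.2 u.2 _
  let v : B → b1 p M a z → ℤ := fun χ j => (mult _ χ.1 j.1 : ℤ)
  have hvT : ∀ χ (t : idxStab a) j, v χ (t • j) = v χ j := fun χ t j =>
    congrArg Nat.cast (mult_smul h t j χ.1)
  have hsum : ∀ (χ : B) (u : a.1), ∑ j, (v χ j : ℂ) * w u j = cw p M a z u (χ.1 : G → ℂ) := by
    intro χ u
    rw [cw_eq_sum h u.2]
    exact Finset.sum_congr rfl fun j _ => by push_cast [v]; rfl
  obtain ⟨j₀, hj₀, hjfr⟩ := PermGram.exists_fixed hJ hU hq0 hw hwT h0 hKJ hfr (exists_gen h)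
  have hgram : ∀ u u' : a.1, u ≠ 1 → u' ≠ 1 → (∃ t : idxStab a, t • u = u') →
      ∑ χ, (∑ j, (v χ j : ℂ) * w u j) * conj (∑ j, (v χ j : ℂ) * w u' j) = (q : ℂ)⁻¹ := by
    rintro u u' hu hu' ⟨t, ht⟩
    rw [Finset.sum_congr rfl fun χ _ => by rw [hsum χ u, hsum χ u']]
    exact gramG_of_stab h u.2 (fun h' => hu (Subtype.ext h')) t.2 (congrArg Subtype.val ht)
  have hgram0 : ∀ u u' : a.1, u ≠ 1 → u' ≠ 1 → (¬ ∃ t : idxStab a, t • u = u') →
      ∑ χ, (∑ j, (v χ j : ℂ) * w u j) * conj (∑ j, (v χ j : ℂ) * w u' j) = 0 := by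
    intro u u' hu hu' hnot
    rw [Finset.sum_congr rfl fun χ _ => by rw [hsum χ u, hsum χ u']]
    exact gramG_of_not h u.2 (fun h' => hu (Subtype.ext h')) u'.2
      (fun h' => hu' (Subtype.ext h')) fun t ht htu => hnot ⟨⟨t, ht⟩, Subtype.ext htu⟩
  have hrow : ∀ χ, ∃ j, v χ j ≠ v χ j₀ := by
    intro χ
    by_contra hcon
    push Not at hcon
    have hD1 : a.1 ≠ ⊥ := by
      intro h1
      have h2 := h.hz
      rw [h1, Subgroup.mem_bot] at h2
      exact h.z_ne h2
    obtain ⟨u, hu, hu1, η, hη, hne⟩ := Cfsg.Agent.H642.F2.exists_W_ne_zero h.hM h.hmax hD1 χ.2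
    apply hne
    rw [← cw_eq_W h hu hu1 _ hη]
    have h3 := hsum χ ⟨u, hu⟩
    rw [← h3, Finset.sum_congr rfl fun j _ => by rw [hcon j], ← Finset.mul_sum,
      PermGram.sum_row hJ hq0 hw hw1 (u := (⟨u, hu⟩ : a.1))
        (fun h' => hu1 (congrArg Subtype.val h')), mul_zero]
  have hG := @PermGram.gram B (b1 p M a z) a.1 (idxStab a) _ _ _ _ _ _ _ K₀ q 1 w v hJ hU hq0 _ _
    hw hw1 hwT h0 hKJ hKU hfr hgram hgram0 j₀ hj₀ hjfr
  have hmpos : 0 < m := by
    rcases Nat.eq_zero_or_pos m with h1 | h1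
    · exfalso
      rw [h1, zero_mul, zero_add] at hm
      have h2 : a.1 = ⊥ := Subgroup.eq_bot_of_card_eq _ hm
      have h3 := h.hz
      rw [h2, Subgroup.mem_bot] at h3
      exact h.z_ne h3
    · exact h1
  have hcb := card_block h (m := m) (by rw [he]; exact hm)
  have hlow := CycLower.relIndex_le h
  rw [he] at hlow
  obtain ⟨hcard, X, Y, δ, o, hXY, hall, hX, hY, hδ, hXv, ho, hYv, hYv0, huniq⟩ :=
    CycStruct.exists_struct (v := v) heK hmpos hJ hm hKJ hj₀ hjfr hvT hrow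
    (by
      intro j j' hj hj' hex
      have h1 := hG (j := j) (j' := j') hj hj'
      rw [if_pos hex, heK] at h1
      exact h1) (by
      intro j j' hj hj' hex
      have h1 := hG (j := j) (j' := j') hj hj'
      rw [if_neg hex, heK, add_zero] at h1
      exact h1) (by rw [← Nat.card_eq_fintype_card, hcb]; omega)
  rw [← Nat.card_eq_fintype_card] at hcard
  refine ⟨by omega, hcard, j₀, X, Y, δ, fun χ j => ∃ t : idxStab a, t • o χ = j, hXY, hall, hX, hY,
    hδ, hXv, ?_, hYv, hYv0, fun χ hχ => ⟨o χ, ho χ hχ, 1, one_smul _ _⟩, huniq⟩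
  rintro χ hχ ⟨t, ht⟩
  apply ho χ hχ
  rw [← hj₀ t] at ht
  exact smul_left_cancel t ht

end Cfsg.Agent.H653.CycMain
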