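import Mathlib
import Cfsg.Agent.H653.CycMain
import Cfsg.Agent.H641.Inertial

/-!
# Blocks with cyclic defect group: the setting of the statements
-/

set_option autoImplicit false
set_option linter.unusedSectionVars false

open Cfsg
open scoped ComplexConjugate

namespace Cfsg.Agent.H653.CycFinal

open Cfsg.Agent.Blocks.Local Cfsg.Agent.Characters
open Cfsg.Agent.H653.CycPairs

universe u

variable {G : Type u} [Group G] [Fintype G] {p : ℕ} [Fact p.Prime] {M : Ideal AlgInt}
  {B : Set (IrrCharacter G)} {D : Subgroup G}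
  {b : Set (IrrCharacter (Subgroup.centralizer (D : Set G)))}

/-- The stabilizer of a block of `C_G(D)`, spelled out. -/
theorem eq_idxStab [M.IsPrime] (hb : IsPBlock M b) {T : Subgroup G}
    (hT : ∀ g : G, g ∈ T ↔ (g ∈ Subgroup.normalizer (D : Set G) ∧
      ∀ θ ∈ b, ∀ θ' : Cfsg.IrrCharacter (Subgroup.centralizer (D : Set G)),
        (∀ h h' : Subgroup.centralizer (D : Set G), (h' : G) = g * h * g⁻¹ →
          (θ' : Subgroup.centralizer (D : Set G) → ℂ) h' =
            (θ : Subgroup.centralizer (D : Set G) → ℂ) h) → θ' ∈ b)) :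
    T = H651.idxStab ⟨D, b⟩ := by
  ext g
  rw [hT, H651.mem_idxStab, H649.conjIdx_eq_iff hb]
  refine and_congr_right fun hg => ?_
  have hg' := H649.mem_normalizer_centralizer hg
  constructor
  · intro h
    refine ⟨hg', fun χ hχ => ⟨H649.irrMap (H649.conjAut _ g hg') χ, ?_, ?_⟩⟩
    · exact h χ hχ _ ((H649.isConjCharOf_iff _ hg' χ _).2 rfl)
    · exact (H649.isConjCharOf_iff _ hg' χ _).2 rfl
  · rintro ⟨-, h⟩ θ hθ θ' hθ'
    obtain ⟨χ', hχ', h1⟩ := h θ hθ
    rw [H649.isConjCharOf_iff _ hg'] at h1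
    have h2 : H649.irrMap (H649.conjAut _ g hg') θ = θ' := (H649.isConjCharOf_iff _ hg' θ θ').1 hθ'
    rw [← h2, h1]
    exact hχ'

/-- A block with nontrivial cyclic defect group: the hypotheses of `CycMain`. -/
theorem exists_hyp [M.IsPrime] (hM : IsPModular p M) (hD : IsCyclic D) {n : ℕ} (hn : 1 ≤ n)
    (hDn : Nat.card D = p ^ n) (hBD : IsDefectGroup p M B D)
    (hind : IsInducedBlock M (Subgroup.centralizer (D : Set G)) b B) :
    ∃ z : G, Hyp p M B ⟨D, b⟩ z := by
  have hp : p.Prime := Fact.out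
  have hmax := H641.isMaximal_of_induced hM hBD hind
  obtain ⟨z, hz⟩ := exists_prime_orderOf_dvd_card' p (G := D) (by
    rw [hDn]
    exact dvd_pow_self p (by omega))
  exact ⟨z, hM, hmax, hD, z.2, by rw [Subgroup.orderOf_coe]; exact hz⟩

/-- The inertial index divides `p - 1`, and `|D| = m e + 1`. -/
theorem dvd_and {z : G} [M.IsPrime] (h : Hyp p M B ⟨D, b⟩ z) {n : ℕ} (hDn : Nat.card D = p ^ n)
    {e : ℕ} (he : (Subgroup.centralizer (D : Set G)).relIndex (H651.idxStab ⟨D, b⟩) = e) :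
    e ∣ p - 1 ∧ Nat.card D = ((p ^ n - 1) / e) * e + 1 ∧ 0 < e := by
  have hp : p.Prime := Fact.out
  have h1 : e ∣ p - 1 := by
    rw [← he]
    exact CycMain.dvd_sub_one h
  have h2 : e ∣ p ^ n - 1 := by
    refine h1.trans ?_
    have := Nat.sub_dvd_pow_sub_pow p 1 n
    rwa [one_pow] at this
  have h3 : 0 < e := Nat.pos_of_ne_zero (by
    rintro rfl
    have h4 := Nat.eq_zero_of_zero_dvd h1
    have h5 := hp.one_lt
    omega)
  refine ⟨h1, ?_, h3⟩
  rw [Nat.div_mul_cancel h2, hDn]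
  have := pow_pos hp.pos n
  omega

end Cfsg.Agent.H653.CycFinal
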