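import Mathlib
import Cfsg.Agent.H653.CycMain
import Cfsg.Agent.S0925
import Cfsg.Agent.S0908
import Cfsg.Agent.H648.HeightForm

/-!
# Blocks with cyclic defect group: relations on `p`-regular and `p`-singular elements

* `sum_mul_conj_apply`: `p`-singular against `p`-regular orthogonality in a block;
* `sum_mult_sub`: `∑ (v χ j - v χ j') χ(s) = 0`, for `s` `p`-regular;
* `vanish_of_cw`: a combination of members of `B` with vanishing columns vanishes on `p`-singular
  elements;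
* `cw_of_rows`: columns in terms of the differences of rows.
-/

set_option autoImplicit false
set_option linter.unusedSectionVars false

open Cfsg
open scoped ComplexConjugate

namespace Cfsg.Agent.H653.CycSign

open Cfsg.Agent.Blocks.Local Cfsg.Agent.Characters
open Cfsg.Agent.H613.SubSys Cfsg.Agent.H613.SubFus Cfsg.Agent.H613.RegGram
open Cfsg.Agent.H639 Cfsg.Agent.H649 Cfsg.Agent.H651
open Cfsg.Agent.H653.ColBasic Cfsg.Agent.H653.CycPairs Cfsg.Agent.H653.CycCols

universe u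

variable {G : Type u} [Group G] [Fintype G] {p : ℕ} [Fact p.Prime] {M : Ideal AlgInt}
  {B : Set (IrrCharacter G)} {a : BrauerPairIdx G} {z : G}

/-- Orthogonality between a `p`-singular and a `p`-regular element, in a block. -/
theorem sum_mul_conj_apply (hM : IsPModular p M) [Fintype B] (hB : IsPBlock M B) {x s : G}
    (hx : p ∣ orderOf x) (hs : ¬ p ∣ orderOf s) :
    ∑ ψ : B, (ψ : G → ℂ) x * conj ((ψ : G → ℂ) s) = 0 := by
  classical
  obtain ⟨v, y, hvy, hcomm, hv, hy⟩ := Cfsg.Agent.Blocks.PPart.exists_isPPart p x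
  have hv1 : v ≠ 1 := by
    rintro rfl
    rw [one_mul] at hvy
    rw [hvy] at hy
    exact hy hx
  have h1 : IsPPart p x v := ⟨y, hvy, hcomm, hv, hy⟩
  have h2 : IsPPart p s 1 := Cfsg.Agent.Blocks.PPart.isPPart_of_not_dvd hs
  have h0 : ¬ IsConj v 1 := fun h => hv1 (isConj_one_right.1 h.symm)
  have h3 := (S0925.result p M hM).2 _ _ _ _ h1 h2 h0 B hB
  have hfin := Core.finite_irr (G := G)
  rw [finsum_mem_eq_toFinset_sum] at h3
  rw [← Finset.sum_subtype B.toFinset (p := fun x => x ∈ B) (fun x => Set.mem_toFinset)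
    (fun ψ : IrrCharacter G => (ψ : G → ℂ) x * conj ((ψ : G → ℂ) s))]
  rw [← h3]
  refine Finset.sum_congr rfl fun ψ _ => ?_
  rw [Cfsg.Agent.Blocks.Orthogonality.irr_apply_inv ψ.2]

variable [M.IsPrime]

variable (h : Hyp p M B a z)

include h

theorem mult_sub_eq (χ : IrrCharacter G) (j j' : b1 p M a z) :
    ((mult _ χ j.1 : ℂ) - (mult _ χ j'.1 : ℂ)) =
      ip (Subgroup.centralizer ((Subgroup.zpowers z : Subgroup G) : Set G)) (χ : G → ℂ)
        (fun x => ei j.1 x - ei j'.1 x) := by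
  classical
  rw [← mult_spec, ← mult_spec, ip_def, ip_def, ip_def, ← mul_sub, ← Finset.sum_sub_distrib]
  congr 1
  refine Finset.sum_congr rfl fun x _ => ?_
  split_ifs
  · rw [map_sub]
    ring
  · ring

/-- Relations on `p`-regular elements. -/
theorem sum_mult_sub [Fintype B] (j j' : b1 p M a z) {s : G} (hs : ¬ p ∣ orderOf s) :
    ∑ χ : B, ((mult _ χ.1 j.1 : ℂ) - (mult _ χ.1 j'.1 : ℂ)) * (χ.1 : G → ℂ) s = 0 := by
  classical
  have hg := h.good h.hz h.z_ne
  have hB : IsPBlock M B := h.hmax.1.2.1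
  have hvan : ∀ x ∈ Subgroup.centralizer ((Subgroup.zpowers z : Subgroup G) : Set G),
      ¬ p ∣ orderOf x → (ei j.1 x - ei j'.1 x : ℂ) = 0 := by
    intro x hx hx'
    rw [sub_eq_zero]
    exact hg.eq _ _ (tst_ei (r := bel p M a z).mpr j.2) (tst_ei (r := bel p M a z).mpr j'.2) x hx
      hx'
  have h1 : conj (∑ χ : B, ((mult _ χ.1 j.1 : ℂ) - (mult _ χ.1 j'.1 : ℂ)) * (χ.1 : G → ℂ) s) =
      0 := by
    rw [map_sum]
    have h2 : ∀ χ : B, conj (((mult _ χ.1 j.1 : ℂ) - (mult _ χ.1 j'.1 : ℂ)) * (χ.1 : G → ℂ) s) =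
        ∑ x : G, (Nat.card (Subgroup.centralizer ((Subgroup.zpowers z : Subgroup G) : Set G)) :
          ℂ)⁻¹ * (if x ∈ Subgroup.centralizer ((Subgroup.zpowers z : Subgroup G) : Set G) then
            conj (ei j.1 x - ei j'.1 x : ℂ) * ((χ.1 : G → ℂ) x * conj ((χ.1 : G → ℂ) s)) else 0) := by
      intro χ
      rw [map_mul, map_sub, Complex.conj_natCast, Complex.conj_natCast, mult_sub_eq h, ip_def,
        mul_assoc, Finset.sum_mul, Finset.mul_sum]
      refine Finset.sum_congr rfl fun x _ => ?_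
      congr 1
      split_ifs
      · ring
      · rw [zero_mul]
    rw [Finset.sum_congr rfl fun χ _ => h2 χ, Finset.sum_comm]
    refine Finset.sum_eq_zero fun x _ => ?_
    rw [← Finset.mul_sum]
    split_ifs with hx
    · by_cases hx' : p ∣ orderOf x
      · rw [← Finset.mul_sum, sum_mul_conj_apply h.hM hB hx' hs, mul_zero, mul_zero]
      · rw [hvan x hx hx', map_zero]
        simp
    · simp
  have h3 := congrArg conj h1
  rwa [Complex.conj_conj, map_zero] at h3

/-- Columns vanish in total. -/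
theorem sum_cw [Fintype (b1 p M a z)] {u : G} (hu : u ∈ a.1) (hu1 : u ≠ 1) :
    ∑ j : b1 p M a z, cw p M a z u (ei j.1) = 0 := by
  have h1 := gram_ne h hu a.1.one_mem hu1
  have hq : (Nat.card a.1 : ℂ) ≠ 0 := by exact_mod_cast Nat.card_pos.ne'
  rw [Finset.sum_congr rfl fun j _ => by rw [cw_one h (Subtype.prop j)], ← Finset.sum_mul] at h1
  rcases mul_eq_zero.mp h1 with h2 | h2
  · exact h2
  · exfalso
    rw [map_inv₀, Complex.conj_natCast] at h2
    exact inv_ne_zero hq h2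

/-- Columns in terms of differences of rows. -/
theorem cw_of_rows [Fintype (b1 p M a z)] {u : G} (hu : u ∈ a.1) (hu1 : u ≠ 1)
    (χ : IrrCharacter G) (j₀ : b1 p M a z) :
    cw p M a z u (χ : G → ℂ) =
      ∑ j : b1 p M a z, (((mult _ χ j.1 : ℤ) - (mult _ χ j₀.1 : ℤ) : ℤ) : ℂ) *
        cw p M a z u (ei j.1) := by
  rw [cw_eq_sum h hu]
  have h1 : ∀ j : b1 p M a z, (((mult _ χ j.1 : ℤ) - (mult _ χ j₀.1 : ℤ) : ℤ) : ℂ) *
        cw p M a z u (ei j.1) = (mult _ χ j.1 : ℂ) * cw p M a z u (ei j.1) -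
        (mult _ χ j₀.1 : ℂ) * cw p M a z u (ei j.1) := by
    intro j
    push_cast
    ring
  rw [Finset.sum_congr rfl fun j _ => h1 j, Finset.sum_sub_distrib, ← Finset.mul_sum,
    sum_cw h hu hu1, mul_zero, sub_zero]

/-- A combination of members of `B` all of whose columns vanish, vanishes on `p`-singular
elements. -/
theorem vanish_of_cw [Fintype B] (n : B → ℂ)
    (hn : ∀ u ∈ a.1, u ≠ 1 → ∑ χ : B, n χ * cw p M a z u (χ.1 : G → ℂ) = 0) {g : G}
    (hg : p ∣ orderOf g) : ∑ χ : B, n χ * (χ.1 : G → ℂ) g = 0 := by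
  classical
  have hM := h.hM
  have hmax := h.hmax
  have hB : IsPBlock M B := h.hmax.1.2.1
  obtain ⟨v, y, hvy, hcomm, hv, hy⟩ := Cfsg.Agent.Blocks.PPart.exists_isPPart p g
  have hv1 : v ≠ 1 := by
    rintro rfl
    rw [one_mul] at hvy
    rw [hvy] at hy
    exact hy hg
  have hf : IsClassFunction G (fun x => ∑ χ : B, n χ * (χ.1 : G → ℂ) x) :=
    isClassFunction_sum Finset.univ n (fun χ : B => (χ.1 : G → ℂ)) fun χ _ =>
      isClassFunction_coe χ.1
  have hmain : (fun x => ∑ χ : B, n χ * (χ.1 : G → ℂ) x) (v * y) = 0 := by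
    refine apply_eq_zero_of_W hM hf (fun c hc1 hc η hη => ?_) hy hcomm
    rw [W_sum p Finset.univ v c n (fun χ : B => (χ.1 : G → ℂ)) η]
    by_cases hind : IsInducedBlock M (Subgroup.centralizer (c.1 : Set G)) c.2 B
    · obtain ⟨x, hx1, hx2⟩ := exists_fus_of_isSubsec hM hmax ⟨hc1, hv, hind⟩
      have hx3 : x * v * x⁻¹ ≠ 1 := fun h' => hv1 (conj_eq_one_iff.1 h')
      have h1 : cjI x c η ∈ (conjIdx x c).2 := (cjI_mem x c η).2 hη
      have h2 : ∀ b : BrauerPairIdx G, b = bel p M a (x * v * x⁻¹) → ∀ ζ ∈ b.2,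
          ∑ χ : B, n χ * W p (x * v * x⁻¹) b (χ.1 : G → ℂ) ζ = 0 := by
        rintro _ rfl ζ hζ
        rw [← hn _ hx1 hx3]
        exact Finset.sum_congr rfl fun χ _ => by rw [cw_eq_W h hx1 hx3 _ hζ]
      have h3 := h2 _ hx2 _ h1
      rw [← h3]
      exact Finset.sum_congr rfl fun χ _ => by rw [← W_conj p x v c (isClassFunction_coe χ.1) η]
    · exact Finset.sum_eq_zero fun χ _ => by
        rw [W_eq_zero hM hv hc1 hB hc hind χ.2 hη, mul_zero]
  rw [← hvy]
  exact hmain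

/-- Integer combinations of members of `B` with vanishing columns: the degree is divisible by the
`p`-part of the group order. -/
theorem dvd_of_cw [Fintype B] (n : B → ℤ)
    (hn : ∀ u ∈ a.1, u ≠ 1 → ∑ χ : B, (n χ : ℂ) * cw p M a z u (χ.1 : G → ℂ) = 0) :
    (p : ℤ) ^ (Nat.card G).factorization p ∣ ∑ χ : B, n χ * (charDegree (χ.1 : G → ℂ) : ℤ) := by
  classical
  have hfin := Core.finite_irr (G := G)
  have := Fintype.ofFinite (IrrCharacter G)
  let N : IrrCharacter G → ℤ := fun χ => if hχ : χ ∈ B then n ⟨χ, hχ⟩ else 0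
  have hsum : ∀ g, ∑ χ : B, (n χ : ℂ) * (χ.1 : G → ℂ) g =
      ∑ ψ : IrrCharacter G, (N ψ : ℂ) * (ψ : G → ℂ) g := by
    intro g
    have h1 : ∀ χ : B, (n χ : ℂ) * (χ.1 : G → ℂ) g = (N χ.1 : ℂ) * (χ.1 : G → ℂ) g := by
      intro χ
      have h2 : N χ.1 = n χ := dif_pos χ.2
      rw [h2]
    rw [Finset.sum_congr rfl fun χ _ => h1 χ]
    rw [← Finset.sum_subtype B.toFinset (p := fun x => x ∈ B) (fun x => Set.mem_toFinset)
      (fun ψ : IrrCharacter G => (N ψ : ℂ) * (ψ : G → ℂ) g)]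
    refine Finset.sum_subset (Finset.subset_univ _) fun ψ _ hψ => ?_
    have h2 : N ψ = 0 := dif_neg fun h' => hψ (Set.mem_toFinset.mpr h')
    rw [h2]
    simp
  obtain ⟨k, hk⟩ := H648.HeightForm.dvd_of_vanish (p := p)
    (f := fun g => ∑ χ : B, (n χ : ℂ) * (χ.1 : G → ℂ) g) N hsum
    (fun g hg => vanish_of_cw h (fun χ => (n χ : ℂ)) hn hg)
  refine ⟨k, ?_⟩
  have h1 : ((∑ χ : B, n χ * (charDegree (χ.1 : G → ℂ) : ℤ) : ℤ) : ℂ) =
      (((p : ℤ) ^ (Nat.card G).factorization p * k : ℤ) : ℂ) := by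
    push_cast
    rw [← hk]
    exact Finset.sum_congr rfl fun χ _ => by rw [Blocks.Basic.irr_one_eq_charDegree χ.1.2]
  exact_mod_cast h1

end Cfsg.Agent.H653.CycSign
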