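import Mathlib
import Cfsg.Agent.H653.CycSign

/-!
# Blocks with cyclic defect group: signs, heights and congruences
-/

set_option autoImplicit false
set_option linter.unusedSectionVars false

open Cfsg
open scoped ComplexConjugate

namespace Cfsg.Agent.H653.CycRel

open Cfsg.Agent.Blocks.Local Cfsg.Agent.Characters
open Cfsg.Agent.H613.SubSys Cfsg.Agent.H613.SubFus Cfsg.Agent.H613.RegGram
open Cfsg.Agent.H639 Cfsg.Agent.H649 Cfsg.Agent.H651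
open Cfsg.Agent.H653.ColBasic Cfsg.Agent.H653.CycPairs Cfsg.Agent.H653.CycCols
open Cfsg.Agent.H653.CycSign

universe u

variable {G : Type u} [Group G] [Fintype G] {p : ℕ} [Fact p.Prime] {M : Ideal AlgInt} [M.IsPrime]
  {B : Set (IrrCharacter G)} {a : BrauerPairIdx G} {z : G}

/-- Signs. -/
theorem exists_signs (h : Hyp p M B a z) {m e : ℕ}
    (he : (Subgroup.centralizer (a.1 : Set G)).relIndex (idxStab a) = e)
    (hm : Nat.card a.1 = m * e + 1) :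
    ∃ (ψ₀ : b1 p M a z) (X Y : Finset B) (δ : B → ℤ) (δ₀ : ℤ),
      Disjoint X Y ∧ (∀ χ, χ ∈ X ∨ χ ∈ Y) ∧ X.card = e ∧ Y.card = m ∧
      (∀ χ, δ χ = 1 ∨ δ χ = -1) ∧ (δ₀ = 1 ∨ δ₀ = -1) ∧
      (∀ ψ ∈ Y, ∀ s : G, ¬ p ∣ orderOf s →
        (δ₀ : ℂ) * (ψ.1 : G → ℂ) s + ∑ χ ∈ X, (δ χ : ℂ) * (χ.1 : G → ℂ) s = 0) ∧
      (∀ χ ∈ X, ∀ u ∈ a.1, u ≠ 1 →
        cw p M a z u (χ.1 : G → ℂ) = - (δ χ : ℂ) * cw p M a z u (ei ψ₀.1)) ∧
      (∀ u ∈ a.1, u ≠ 1 →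
        ∑ ψ ∈ Y, (δ₀ : ℂ) * cw p M a z u (ψ.1 : G → ℂ) = - cw p M a z u (ei ψ₀.1)) := by
  classical
  have hfinB := Core.finite_irr (G := G)
  have : Fintype B := Fintype.ofFinite B
  have hfinC := Core.finite_irr
    (G := Subgroup.centralizer ((Subgroup.zpowers z : Subgroup G) : Set G))
  have : Fintype (b1 p M a z) := Fintype.ofFinite (b1 p M a z)
  obtain ⟨-, -, ψ₀, X, Y, δ, O, hXY, hall, hX, hY, hδ, hXv, hO₀, hYv, hYv0, hYex, huniq⟩ :=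
    CycMain.exists_rows h he hm
  -- relation at the `p`-regular elements
  have hrel : ∀ ψ ∈ Y, ∀ s : G, ¬ p ∣ orderOf s →
      (δ ψ : ℂ) * (ψ.1 : G → ℂ) s + ∑ χ ∈ X, (δ χ : ℂ) * (χ.1 : G → ℂ) s = 0 := by
    intro ψ hψ s hs
    obtain ⟨j, hj, hψj⟩ := hYex ψ hψ
    have h1 := sum_mult_sub h j ψ₀ hs
    have hcast : ∀ χ : B, ((mult _ χ.1 j.1 : ℂ) - (mult _ χ.1 ψ₀.1 : ℂ)) =
        (((mult _ χ.1 j.1 : ℤ) - (mult _ χ.1 ψ₀.1 : ℤ) : ℤ) : ℂ) := by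
      intro χ
      push_cast
      rfl
    rw [Finset.sum_congr rfl fun χ _ => by rw [hcast χ]] at h1
    have huniv : (Finset.univ : Finset B) = X ∪ Y := by
      ext χ
      simp only [Finset.mem_univ, Finset.mem_union, true_iff]
      exact hall χ
    rw [huniv, Finset.sum_union hXY, Finset.sum_congr rfl fun χ hχ => by rw [hXv χ hχ j hj]] at h1
    obtain ⟨ψ', hψ', hψ'j, hu⟩ := huniq j hj
    have hψψ' : ψ = ψ' := hu ψ hψ hψj
    rw [Finset.sum_eq_single_of_mem ψ hψ (fun χ hχ hne => by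
      rw [hYv0 χ hχ j hj (fun h' => hne ((hu χ hχ h').trans hψψ'.symm))]
      simp), hYv ψ hψ j hj hψj] at h1
    rw [add_comm]
    exact h1
  -- signs in `Y`
  have hYne : Y.Nonempty := by
    rw [← Finset.card_pos, hY]
    rcases Nat.eq_zero_or_pos m with h1 | h1
    · exfalso
      rw [h1, zero_mul, zero_add] at hm
      have h2 : a.1 = ⊥ := Subgroup.eq_bot_of_card_eq _ hm
      have h3 := h.hz
      rw [h2, Subgroup.mem_bot] at h3
      exact h.z_ne h3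
    · exact h1
  obtain ⟨ψ₁, hψ₁⟩ := hYne
  have hdeg : ∀ χ : B, (χ.1 : G → ℂ) 1 = (charDegree (χ.1 : G → ℂ) : ℂ) := fun χ =>
    Blocks.Basic.irr_one_eq_charDegree χ.1.2
  have hpos : ∀ χ : B, 0 < (charDegree (χ.1 : G → ℂ)) := fun χ =>
    Blocks.Basic.charDegree_pos χ.1.2
  have h11 : ¬ p ∣ orderOf (1 : G) := by
    rw [orderOf_one]
    exact (Fact.out : p.Prime).not_dvd_one
  have hδY : ∀ ψ ∈ Y, δ ψ = δ ψ₁ := by
    intro ψ hψ
    have h1 := hrel ψ hψ 1 h11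
    have h2 := hrel ψ₁ hψ₁ 1 h11
    have h3 : (δ ψ : ℂ) * (charDegree (ψ.1 : G → ℂ) : ℂ) =
        (δ ψ₁ : ℂ) * (charDegree (ψ₁.1 : G → ℂ) : ℂ) := by
      rw [← hdeg, ← hdeg]
      exact add_right_cancel (h1.trans h2.symm)
    have h4 : δ ψ * (charDegree (ψ.1 : G → ℂ) : ℤ) =
        δ ψ₁ * (charDegree (ψ₁.1 : G → ℂ) : ℤ) := by exact_mod_cast h3
    have h5 := hpos ψ
    have h6 := hpos ψ₁
    rcases hδ ψ with h7 | h7 <;> rcases hδ ψ₁ with h8 | h8 <;> rw [h7, h8] at h4 ⊢ <;> omega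
  have huniv : (Finset.univ : Finset (b1 p M a z)) = {ψ₀} ∪ Finset.univ.filter (· ≠ ψ₀) := by
    ext j
    simp only [Finset.mem_univ, Finset.mem_union, Finset.mem_singleton, Finset.mem_filter,
      true_and, true_iff]
    exact em _
  have hd0 : Disjoint ({ψ₀} : Finset (b1 p M a z)) (Finset.univ.filter (· ≠ ψ₀)) := by
    rw [Finset.disjoint_singleton_left]
    simp
  have hsumne : ∀ u ∈ a.1, u ≠ 1 → ∑ j ∈ Finset.univ.filter (· ≠ ψ₀), cw p M a z u (ei j.1) =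
      - cw p M a z u (ei ψ₀.1) := by
    intro u hu hu1
    have h1 := sum_cw h hu hu1
    rw [huniv, Finset.sum_union hd0, Finset.sum_singleton] at h1
    exact eq_neg_of_add_eq_zero_right h1
  have hrow : ∀ (χ : B) (u : G), u ∈ a.1 → u ≠ 1 → cw p M a z u (χ.1 : G → ℂ) =
      ∑ j ∈ Finset.univ.filter (· ≠ ψ₀),
        (((mult _ χ.1 j.1 : ℤ) - (mult _ χ.1 ψ₀.1 : ℤ) : ℤ) : ℂ) * cw p M a z u (ei j.1) := by
    intro χ u hu hu1
    rw [cw_of_rows h hu hu1 χ.1 ψ₀, huniv, Finset.sum_union hd0, Finset.sum_singleton, sub_self,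
      Int.cast_zero, zero_mul, zero_add, ← huniv]
  refine ⟨ψ₀, X, Y, δ, δ ψ₁, hXY, hall, hX, hY, hδ, hδ ψ₁, ?_, ?_, ?_⟩
  · intro ψ hψ s hs
    rw [← hδY ψ hψ]
    exact hrel ψ hψ s hs
  · intro χ hχ u hu hu1
    rw [hrow χ u hu hu1, Finset.sum_congr rfl fun j hj => by
      rw [hXv χ hχ j (Finset.mem_filter.mp hj).2], ← Finset.mul_sum, hsumne u hu hu1]
    ring
  · intro u hu hu1
    rw [← hsumne u hu hu1]
    rw [Finset.sum_congr rfl fun ψ hψ => by rw [hrow ψ u hu hu1, Finset.mul_sum], Finset.sum_comm]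
    refine Finset.sum_congr rfl fun j hj => ?_
    have hj' := (Finset.mem_filter.mp hj).2
    obtain ⟨ψ, hψ, hψj, hu'⟩ := huniq j hj'
    rw [Finset.sum_eq_single_of_mem ψ hψ (fun χ hχ hne => by
      rw [hYv0 χ hχ j hj' (fun h' => hne (hu' χ hχ h'))]
      simp), hYv ψ hψ j hj' hψj, hδY ψ hψ, ← mul_assoc]
    have h7 : ((δ ψ₁ : ℤ) : ℂ) * ((δ ψ₁ : ℤ) : ℂ) = 1 := by
      rcases hδ ψ₁ with h8 | h8 <;> rw [h8] <;> simp
    rw [h7, one_mul]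

end Cfsg.Agent.H653.CycRel
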