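import Mathlib
import Cfsg.Agent.H653.CycRel

/-!
# Blocks with cyclic defect group: heights and congruences
-/

set_option autoImplicit false
set_option linter.unusedSectionVars false

open Cfsg
open scoped ComplexConjugate

namespace Cfsg.Agent.H653.CycHeight

open Cfsg.Agent.Blocks.Local Cfsg.Agent.Characters
open Cfsg.Agent.H613.SubSys Cfsg.Agent.H613.SubFus Cfsg.Agent.H613.RegGram
open Cfsg.Agent.H639 Cfsg.Agent.H649 Cfsg.Agent.H651
open Cfsg.Agent.H653.ColBasic Cfsg.Agent.H653.CycPairs Cfsg.Agent.H653.CycCols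
open Cfsg.Agent.H653.CycSign

universe u

variable {G : Type u} [Group G] [Fintype G] {p : ℕ} [Fact p.Prime] {M : Ideal AlgInt} [M.IsPrime]
  {B : Set (IrrCharacter G)} {a : BrauerPairIdx G} {z : G}

/-- A natural number congruent, up to sign and factors prime to `p`, to another one. -/
theorem factorization_eq_of_dvd (hp : p.Prime) {N : ℕ} {c d : ℕ} {s t : ℤ} (hs : ¬ (p : ℤ) ∣ s)
    (ht : ¬ (p : ℤ) ∣ t) (hc : c ≠ 0) (hd : d ≠ 0)
    (h : (p : ℤ) ^ N ∣ s * c - t * d) (hlt : c.factorization p < N) :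
    d.factorization p = c.factorization p := by
  have hpZ : Prime (p : ℤ) := Nat.prime_iff_prime_int.mp hp
  have h1 : ∀ k : ℕ, k ≤ N → (p ^ k ∣ c ↔ p ^ k ∣ d) := by
    intro k hk
    have h2 : (p : ℤ) ^ k ∣ s * c - t * d := (pow_dvd_pow _ hk).trans h
    have h3 : (p : ℤ) ^ k ∣ s * c ↔ (p : ℤ) ^ k ∣ t * d := by
      constructor
      · intro h4
        have h5 := dvd_sub h4 h2
        rwa [sub_sub_cancel] at h5
      · intro h4
        have h5 := dvd_add h2 h4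
        rwa [sub_add_cancel] at h5
    have hcs : IsCoprime ((p : ℤ) ^ k) s := by
      apply IsCoprime.pow_left
      exact (Prime.coprime_iff_not_dvd hpZ).mpr hs
    have hct : IsCoprime ((p : ℤ) ^ k) t := by
      apply IsCoprime.pow_left
      exact (Prime.coprime_iff_not_dvd hpZ).mpr ht
    have h6 : (p : ℤ) ^ k ∣ (c : ℤ) ↔ (p : ℤ) ^ k ∣ (d : ℤ) := by
      constructor
      · intro h7
        exact hct.dvd_of_dvd_mul_left (h3.mp (h7.mul_left _))
      · intro h7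
        exact hcs.dvd_of_dvd_mul_left (h3.mpr (h7.mul_left _))
    constructor
    · intro h7
      exact_mod_cast h6.mp (by exact_mod_cast h7)
    · intro h7
      exact_mod_cast h6.mpr (by exact_mod_cast h7)
  have h2 := (h1 (c.factorization p) hlt.le).mp
    ((Nat.Prime.pow_dvd_iff_le_factorization hp hc).mpr le_rfl)
  have h3 : ¬ p ^ (c.factorization p + 1) ∣ d := by
    intro h4
    have h5 := (h1 (c.factorization p + 1) hlt).mpr h4
    have h6 := (Nat.Prime.pow_dvd_iff_le_factorization hp hc).mp h5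
    omega
  rw [Nat.Prime.pow_dvd_iff_le_factorization hp hd] at h2 h3
  omega

/-- Congruences between the degrees. -/
theorem dvd_degrees (h : Hyp p M B a z) {X Y : Finset B} {δ : B → ℤ} {δ₀ : ℤ} {c : G → ℂ}
    (hX : ∀ χ ∈ X, ∀ u ∈ a.1, u ≠ 1 → cw p M a z u (χ.1 : G → ℂ) = - (δ χ : ℂ) * c u)
    (hY : ∀ u ∈ a.1, u ≠ 1 → ∑ ψ ∈ Y, (δ₀ : ℂ) * cw p M a z u (ψ.1 : G → ℂ) = - c u)
    (hδ : ∀ χ, δ χ = 1 ∨ δ χ = -1) :
    (∀ χ ∈ X, ∀ χ' ∈ X, (p : ℤ) ^ (Nat.card G).factorization p ∣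
      δ χ * (charDegree (χ.1 : G → ℂ) : ℤ) - δ χ' * (charDegree (χ'.1 : G → ℂ) : ℤ)) ∧
    (∀ χ ∈ X, (p : ℤ) ^ (Nat.card G).factorization p ∣
      δ₀ * ∑ ψ ∈ Y, (charDegree (ψ.1 : G → ℂ) : ℤ) - δ χ * (charDegree (χ.1 : G → ℂ) : ℤ)) := by
  classical
  have hfinB := Core.finite_irr (G := G)
  have : Fintype B := Fintype.ofFinite B
  have hsq : ∀ χ, (δ χ : ℂ) * (δ χ : ℂ) = 1 := by
    intro χ
    rcases hδ χ with h1 | h1 <;> rw [h1] <;> simp
  have hXc : ∀ χ ∈ X, ∀ u ∈ a.1, u ≠ 1 → (δ χ : ℂ) * cw p M a z u (χ.1 : G → ℂ) = - c u := by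
    intro χ hχ u hu hu1
    rw [hX χ hχ u hu hu1]
    linear_combination (- c u) * hsq χ
  constructor
  · intro χ hχ χ' hχ'
    have h1 := dvd_of_cw h (fun ψ => (if ψ = χ then δ χ else 0) - (if ψ = χ' then δ χ' else 0))
      (by
        intro u hu hu1
        have h2 : ∀ ψ : B, ((((if ψ = χ then δ χ else 0) - (if ψ = χ' then δ χ' else 0) : ℤ)) : ℂ) *
            cw p M a z u (ψ.1 : G → ℂ) =
            (if ψ = χ then (δ χ : ℂ) * cw p M a z u (χ.1 : G → ℂ) else 0) -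
            (if ψ = χ' then (δ χ' : ℂ) * cw p M a z u (χ'.1 : G → ℂ) else 0) := by
          intro ψ
          by_cases h3 : ψ = χ <;> by_cases h4 : ψ = χ'
          · subst h3
            subst h4
            simp
          · subst h3
            simp [h4]
          · subst h4
            simp [h3]
          · simp [h3, h4]
        rw [Finset.sum_congr rfl fun ψ _ => h2 ψ, Finset.sum_sub_distrib,
          Finset.sum_ite_eq' Finset.univ χ, Finset.sum_ite_eq' Finset.univ χ',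
          if_pos (Finset.mem_univ _), if_pos (Finset.mem_univ _), hXc χ hχ u hu hu1,
          hXc χ' hχ' u hu hu1, sub_self])
    have h2 : ∑ ψ : B, ((if ψ = χ then δ χ else 0) - (if ψ = χ' then δ χ' else 0)) *
        (charDegree (ψ.1 : G → ℂ) : ℤ) =
        δ χ * (charDegree (χ.1 : G → ℂ) : ℤ) - δ χ' * (charDegree (χ'.1 : G → ℂ) : ℤ) := by
      simp only [sub_mul, ite_mul, zero_mul, Finset.sum_sub_distrib, Finset.sum_ite_eq',
        Finset.mem_univ, if_true]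
    rwa [h2] at h1
  · intro χ hχ
    have h1 := dvd_of_cw h (fun ψ => (if ψ ∈ Y then δ₀ else 0) - (if ψ = χ then δ χ else 0))
      (by
        intro u hu hu1
        have h2 : ∀ ψ : B, ((((if ψ ∈ Y then δ₀ else 0) - (if ψ = χ then δ χ else 0) : ℤ)) : ℂ) *
            cw p M a z u (ψ.1 : G → ℂ) =
            (if ψ ∈ Y then (δ₀ : ℂ) * cw p M a z u (ψ.1 : G → ℂ) else 0) -
            (if ψ = χ then (δ χ : ℂ) * cw p M a z u (χ.1 : G → ℂ) else 0) := by
          intro ψ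
          by_cases h3 : ψ ∈ Y <;> by_cases h4 : ψ = χ
          · subst h4
            simp only [h3, if_true]
            push_cast
            ring
          · simp [h3, h4]
          · subst h4
            simp [h3]
          · simp [h3, h4]
        rw [Finset.sum_congr rfl fun ψ _ => h2 ψ, Finset.sum_sub_distrib,
          Finset.sum_ite_eq' Finset.univ χ, if_pos (Finset.mem_univ _), hXc χ hχ u hu hu1,
          ← Finset.sum_filter, Finset.filter_mem_eq_inter, Finset.univ_inter, hY u hu hu1,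
          sub_self])
    have h2 : ∑ ψ : B, ((if ψ ∈ Y then δ₀ else 0) - (if ψ = χ then δ χ else 0)) *
        (charDegree (ψ.1 : G → ℂ) : ℤ) =
        δ₀ * ∑ ψ ∈ Y, (charDegree (ψ.1 : G → ℂ) : ℤ) - δ χ * (charDegree (χ.1 : G → ℂ) : ℤ) := by
      simp only [sub_mul, ite_mul, zero_mul, Finset.sum_sub_distrib, Finset.sum_ite_eq',
        Finset.mem_univ, if_true]
      rw [← Finset.sum_filter, Finset.filter_mem_eq_inter, Finset.univ_inter, Finset.mul_sum]
    rwa [h2] at h1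

theorem not_dvd_sign {δ : ℤ} (hδ : δ = 1 ∨ δ = -1) : ¬ (p : ℤ) ∣ δ := by
  have hp : p.Prime := Fact.out
  have h1 : ¬ (p : ℤ) ∣ 1 := by
    intro h2
    have h3 : p ∣ 1 := by exact_mod_cast h2
    exact hp.not_dvd_one h3
  rcases hδ with h2 | h2 <;> rw [h2]
  · exact h1
  · rw [dvd_neg]
    exact h1

/-- Heights zero, signs and congruences. -/
theorem main (h : Hyp p M B a z) {n m e : ℕ} (hDn : Nat.card a.1 = p ^ n)
    (he : (Subgroup.centralizer (a.1 : Set G)).relIndex (idxStab a) = e)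
    (hm : Nat.card a.1 = m * e + 1) (he0 : 0 < e) :
    (∀ χ ∈ B, blockHeight p B (χ : G → ℂ) = 0) ∧
    ∃ (X Y : Finset B) (δ : B → ℤ) (δ₀ : ℤ),
      Disjoint X Y ∧ (∀ χ, χ ∈ X ∨ χ ∈ Y) ∧ X.card = e ∧ Y.card = m ∧
      (∀ χ, δ χ = 1 ∨ δ χ = -1) ∧ (δ₀ = 1 ∨ δ₀ = -1) ∧
      (∀ ψ ∈ Y, ∀ s : G, ¬ p ∣ orderOf s →
        (δ₀ : ℂ) * (ψ.1 : G → ℂ) s + ∑ χ ∈ X, (δ χ : ℂ) * (χ.1 : G → ℂ) s = 0) ∧
      (∀ χ ∈ X, ∀ χ' ∈ X, (p : ℤ) ^ (Nat.card G).factorization p ∣
        δ χ * (charDegree (χ.1 : G → ℂ) : ℤ) - δ χ' * (charDegree (χ'.1 : G → ℂ) : ℤ)) ∧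
      (∀ ψ ∈ Y, ∀ χ ∈ X, (p : ℤ) ^ (Nat.card G).factorization p ∣
        δ₀ * m * (charDegree (ψ.1 : G → ℂ) : ℤ) - δ χ * (charDegree (χ.1 : G → ℂ) : ℤ)) ∧
      n ≤ (Nat.card G).factorization p := by
  classical
  have hp : p.Prime := Fact.out
  have hB : IsPBlock M B := h.hmax.1.2.1
  have hfinB := Core.finite_irr (G := G)
  have : Fintype B := Fintype.ofFinite B
  obtain ⟨ψ₀, X, Y, δ, δ₀, hXY, hall, hX, hY, hδ, hδ₀, hrel, hXc, hYc⟩ :=
    CycRel.exists_signs h he hm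
  obtain ⟨hc1, hc2⟩ := dvd_degrees h (c := fun u => cw p M a z u (ei ψ₀.1)) hXc hYc hδ
  have hdeg : ∀ χ : B, (χ.1 : G → ℂ) 1 = (charDegree (χ.1 : G → ℂ) : ℂ) := fun χ =>
    Blocks.Basic.irr_one_eq_charDegree χ.1.2
  have hpos : ∀ χ : B, 0 < (charDegree (χ.1 : G → ℂ)) := fun χ =>
    Blocks.Basic.charDegree_pos χ.1.2
  have h11 : ¬ p ∣ orderOf (1 : G) := by
    rw [orderOf_one]
    exact hp.not_dvd_one
  -- the degrees in `Y` agree
  have hYdeg : ∀ ψ ∈ Y, ∀ ψ' ∈ Y, charDegree (ψ.1 : G → ℂ) = charDegree (ψ'.1 : G → ℂ) := by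
    intro ψ hψ ψ' hψ'
    have h1 := hrel ψ hψ 1 h11
    have h2 := hrel ψ' hψ' 1 h11
    have h3 : (δ₀ : ℂ) * (charDegree (ψ.1 : G → ℂ) : ℂ) =
        (δ₀ : ℂ) * (charDegree (ψ'.1 : G → ℂ) : ℂ) := by
      rw [← hdeg, ← hdeg]
      exact add_right_cancel (h1.trans h2.symm)
    have h4 : (δ₀ : ℂ) ≠ 0 := by
      rcases hδ₀ with h5 | h5 <;> rw [h5] <;> simp
    exact_mod_cast mul_left_cancel₀ h4 h3
  have hc2' : ∀ ψ ∈ Y, ∀ χ ∈ X, (p : ℤ) ^ (Nat.card G).factorization p ∣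
        δ₀ * m * (charDegree (ψ.1 : G → ℂ) : ℤ) - δ χ * (charDegree (χ.1 : G → ℂ) : ℤ) := by
    intro ψ hψ χ hχ
    have h1 := hc2 χ hχ
    rw [Finset.sum_congr rfl fun ψ' hψ' => by rw [hYdeg ψ' hψ' ψ hψ], Finset.sum_const, hY,
      nsmul_eq_mul, ← mul_assoc] at h1
    exact h1
  -- the defect
  have hn0 : n ≠ 0 := by
    rintro rfl
    rw [pow_zero] at hDn
    have h2 : a.1 = ⊥ := Subgroup.eq_bot_of_card_eq _ hDn
    have h3 := h.hz
    rw [h2, Subgroup.mem_bot] at h3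
    exact h.z_ne h3
  have hD := Cfsg.Agent.H644.isDefectGroup_of_isMaximalBrauerPair h.hM h.hmax
  have h3 := S0908.result p M h.hM B hB a.1 hD
  have hdef : blockDefect p B = n := by
    rw [hDn] at h3
    exact (Nat.pow_right_injective hp.two_le h3).symm
  obtain ⟨χ₀, hχ₀, hht⟩ := H648.HeightForm.exists_height_zero (p := p) hB
  have hadd : ∀ χ ∈ B, n + (charDegree (χ : G → ℂ)).factorization p =
      (Nat.card G).factorization p + blockHeight p B (χ : G → ℂ) := by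
    intro χ hχ
    rw [← hdef]
    exact H648.HeightForm.defect_add B hχ
  have hv₀ := hadd χ₀ hχ₀
  rw [hht, add_zero] at hv₀
  have hnm : ¬ (p : ℤ) ∣ δ₀ * m := by
    intro h1
    have hpZ : Prime (p : ℤ) := Nat.prime_iff_prime_int.mp hp
    rcases hpZ.dvd_or_dvd h1 with h2 | h2
    · exact not_dvd_sign hδ₀ h2
    · have h4 : p ∣ m := by exact_mod_cast h2
      have h5 : p ∣ m * e + 1 := by
        rw [← hm, hDn]
        exact dvd_pow_self p hn0
      have h6 := (Nat.dvd_add_right (h4.mul_right e)).mp h5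
      exact hp.not_dvd_one h6
  have hYX : ∀ ψ ∈ Y, ∀ χ ∈ X, (charDegree (ψ.1 : G → ℂ)).factorization p <
      (Nat.card G).factorization p →
      (charDegree (χ.1 : G → ℂ)).factorization p = (charDegree (ψ.1 : G → ℂ)).factorization p :=
    fun ψ hψ χ hχ hlt => factorization_eq_of_dvd hp hnm (not_dvd_sign (hδ χ)) (hpos ψ).ne'
      (hpos χ).ne' (hc2' ψ hψ χ hχ) hlt
  have hXY' : ∀ ψ ∈ Y, ∀ χ ∈ X, (charDegree (χ.1 : G → ℂ)).factorization p <
      (Nat.card G).factorization p →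
      (charDegree (ψ.1 : G → ℂ)).factorization p = (charDegree (χ.1 : G → ℂ)).factorization p :=
    fun ψ hψ χ hχ hlt => factorization_eq_of_dvd hp (not_dvd_sign (hδ χ)) hnm (hpos χ).ne'
      (hpos ψ).ne' ((dvd_sub_comm).mp (hc2' ψ hψ χ hχ)) hlt
  have hXX : ∀ χ ∈ X, ∀ χ' ∈ X, (charDegree (χ.1 : G → ℂ)).factorization p <
      (Nat.card G).factorization p →
      (charDegree (χ'.1 : G → ℂ)).factorization p = (charDegree (χ.1 : G → ℂ)).factorization p :=
    fun χ hχ χ' hχ' hlt => factorization_eq_of_dvd hp (not_dvd_sign (hδ χ))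
      (not_dvd_sign (hδ χ')) (hpos χ).ne' (hpos χ').ne' (hc1 χ hχ χ' hχ') hlt
  obtain ⟨χ₁, hχ₁, hv₁⟩ : ∃ χ₁ ∈ X, n + (charDegree (χ₁.1 : G → ℂ)).factorization p =
      (Nat.card G).factorization p := by
    rcases hall ⟨χ₀, hχ₀⟩ with h1 | h1
    · exact ⟨_, h1, hv₀⟩
    · have h2 : X.Nonempty := by
        rw [← Finset.card_pos, hX]
        exact he0
      obtain ⟨χ, hχ⟩ := h2
      refine ⟨χ, hχ, ?_⟩
      rw [hYX _ h1 χ hχ (by
        show (charDegree (χ₀ : G → ℂ)).factorization p < _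
        omega)]
      exact hv₀
  refine ⟨?_, X, Y, δ, δ₀, hXY, hall, hX, hY, hδ, hδ₀, hrel, hc1, hc2', by omega⟩
  intro χ hχ
  have h1 := hadd χ hχ
  have h2 : (charDegree (χ : G → ℂ)).factorization p =
      (charDegree (χ₁.1 : G → ℂ)).factorization p := by
    rcases hall ⟨χ, hχ⟩ with h4 | h4
    · exact hXX χ₁ hχ₁ _ h4 (by omega)
    · exact hXY' _ h4 χ₁ hχ₁ (by omega)
  omega

end Cfsg.Agent.H653.CycHeight
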